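import Cfsg.Agent.Co0Standard47.Data
import Cfsg.Agent.SporStruct.OutCo1Mono
import Cfsg.Agent.Lib.Golay.Involutions
import Cfsg.Agent.Lib.Leech.Co1Cent.Xi

/-!
Kernel checks for the conjugations of involutory signed permutations.
-/

set_option autoImplicit false
set_option maxRecDepth 100000

namespace Cfsg.Agent.Co0Standard47

open Cfsg
open Cfsg.Agent.Golay (pt idx toSet popc inCode comb idTab inv8Tab inv0Tab isPermTab checkAut imgN)
open Cfsg.Agent.SporStruct.CoMatrix (mulM)
open Cfsg.Agent.SporStruct.OutCo1 (sMat)
open Cfsg.Agent.Leech.Co1Cent (xiEnt)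

/-- The table of a kind. -/
def kindTab (k : ℕ) : List ℕ := if k = 0 then inv8Tab else inv0Tab

/-- The table of the non-monomial element. -/
def xiTab : List (List ℤ) :=
  (List.range 24).map fun i => (List.range 24).map fun k => 4 * xiEnt (pt k) (pt i)

/-- The sign sets giving the commutators of a kind. -/
def preList (k : ℕ) : List ℕ := if k = 0 then pre8 else pre0

/-- A representative is conjugate to a sign change. -/
def repOK : ℕ × ℕ × List ℕ × ℕ × ℕ → Bool
  | (k, c, h, e, d) =>
    isPermTab h && checkAut h && inCode c && inCode e && inCode d &&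
      decide (mulM xiTab (mulM (sMat (h, e)) (sMat (kindTab k, c))) =
        mulM (sMat (idTab, d)) (mulM xiTab (sMat (h, e))))

/-- A fixed sign set is a representative up to a commutator. -/
def fixedOK (k n : ℕ) : Bool :=
  imgN (kindTab k) n != n ||
    repData.any fun q => q.1 == k &&
      (preList k).any fun e => n == q.2.1 ^^^ (e ^^^ imgN (kindTab k) e)

theorem reps_ok : repData.all repOK = true := by decide +kernel

theorem fixed_ok : ((List.range 4096).all fun m => fixedOK 0 (comb m) && fixedOK 1 (comb m)) = true := by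
  decide +kernel

theorem pre_ok : ((pre8 ++ pre0).all fun e => inCode e) = true := by decide +kernel

/-- The base octad. -/
abbrev oN : ℕ := 8536111

/-- Its complement. -/
abbrev ocN : ℕ := 8241104

/-- The base dodecad. -/
abbrev dN : ℕ := 8245261

theorem word_facts :
    (inCode oN = true ∧ popc oN = 8) ∧ (inCode ocN = true ∧ popc ocN = 16) ∧
    (inCode dN = true ∧ popc dN = 12) ∧ oN ^^^ (2 ^ 24 - 1) = ocN := by
  decide +kernel

/-- The six witnesses: the sign sets of the fixed involution and of a commuting one. -/
def witData : List (ℕ × ℕ) :=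
  [(oN, 13062145), (ocN, 6889680 ^^^ (2 ^ 24 - 1)), (oN, 4845570), (dN, 9347075),
    (oN, 13062145 ^^^ (2 ^ 24 - 1)), (dN, 13062145)]

theorem wit_facts : ∀ i : Fin 6,
    inCode (witData.getD i.val (0, 0)).2 = true ∧
    popc (witData.getD i.val (0, 0)).2 = [8, 16, 8, 8, 16, 8].getD i.val 0 ∧
    inCode ((witData.getD i.val (0, 0)).2 ^^^ (witData.getD i.val (0, 0)).1) = true ∧
    popc ((witData.getD i.val (0, 0)).2 ^^^ (witData.getD i.val (0, 0)).1) =
      [8, 16, 12, 12, 16, 8].getD i.val 0 := by
  decide +kernel

end Cfsg.Agent.Co0Standard47
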