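import Cfsg.Agent.Lib.Leech.Facts
import Cfsg.Agent.Lib.Leech.Center
import Cfsg.Agent.Lib.Leech.Simplicity
import Cfsg.Agent.Lib.Leech.Co1Cent.Cover
import Cfsg.Agent.Lib.Leech.CodeUnique
import Cfsg.Agent.Lib.Golay.Coinvariant
import Cfsg.Agent.SporStruct.OctadStab
import Cfsg.Agent.S0397

/-!
Signed permutations over a Sylow 2-subgroup of `M₂₄`: every 2-element is conjugate to a signed
permutation, and a square root lemma for commutants of sign changes.
-/

set_option autoImplicit false

namespace Cfsg.Agent.Co0Standard47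

open Cfsg Cfsg.Agent.Leech
open Cfsg.Agent.Leech.Co1Cent (mono_mul mono_one_one mono_congr)
open scoped Pointwise symmDiff

theorem finite_co0 : Finite Co0 := Nat.finite_of_card_ne_zero (by rw [S0397.result]; norm_num)

theorem smul_code (σ : M24) {c : Finset GolayPt} (hc : c ∈ code) : σ.1 • c ∈ code := by
  have : σ.1 • code = code := MulAction.mem_stabilizer_iff.1 σ.2
  rw [← this]; exact Set.smul_mem_smul_set hc

theorem mono_mul' (σ τ : M24) {c d : Finset GolayPt} (hc : c ∈ code) (hd : d ∈ code) :
    mono σ hc * mono τ hd = mono (σ * τ) (symmDiff_mem_code hc (smul_code σ hd)) :=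
  mono_mul σ τ hc hd _

theorem negOne_eq : negOne = mono 1 univ_mem_code := rfl

/-- A signed permutation squaring to a sign change has an involutory permutation. -/
theorem mono_sq_one_or_neg {σ : M24} {c : Finset GolayPt} (hc : c ∈ code)
    (h : mono σ hc * mono σ hc = 1 ∨ mono σ hc * mono σ hc = negOne) : σ * σ = 1 := by
  rw [mono_mul'] at h
  rcases h with h | h
  · rw [← mono_one_one] at h; exact (mono_injective h).1
  · rw [negOne_eq] at h; exact (mono_injective h).1

/-- The signed permutations over a group of permutations. -/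
noncomputable def monoSub (T : Subgroup M24) : Subgroup Co0 where
  carrier := {g | ∃ σ ∈ T, ∃ (c : Finset GolayPt) (hc : c ∈ code), g = mono σ hc}
  one_mem' := ⟨1, T.one_mem, ∅, empty_mem_code, mono_one_one.symm⟩
  mul_mem' := by
    rintro _ _ ⟨σ, hσ, c, hc, rfl⟩ ⟨τ, hτ, d, hd, rfl⟩
    exact ⟨_, T.mul_mem hσ hτ, _, _, mono_mul' σ τ hc hd⟩
  inv_mem' := by
    rintro _ ⟨σ, hσ, c, hc, rfl⟩
    refine ⟨σ⁻¹, T.inv_mem hσ, _, smul_code σ⁻¹ hc, inv_eq_of_mul_eq_one_right ?_⟩
    rw [mono_mul', ← mono_one_one]
    exact mono_congr (mul_inv_cancel σ) (by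
      rw [show ((σ⁻¹ : M24) : Equiv.Perm GolayPt) = σ.1⁻¹ from rfl, smul_inv_smul]
      exact symmDiff_self c)

theorem card_monoSub (T : Subgroup M24) : Nat.card (monoSub T) = Nat.card T * 4096 := by
  let f : T × code → monoSub T := fun x => ⟨mono x.1.1 x.2.2, x.1.1, x.1.2, x.2.1, x.2.2, rfl⟩
  have hf : Function.Bijective f := by
    refine ⟨?_, ?_⟩
    · intro x y h
      obtain ⟨e1, e2⟩ := mono_injective (congrArg Subtype.val h)
      exact Prod.ext (Subtype.ext e1) (Subtype.ext e2)
    · rintro ⟨g, σ, hσ, c, hc, rfl⟩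
      exact ⟨(⟨σ, hσ⟩, ⟨c, hc⟩), rfl⟩
  rw [← Nat.card_congr (Equiv.ofBijective f hf), Nat.card_prod, Nat.card_coe_set_eq, code_ncard]

/-- The base octad. -/
noncomputable abbrev oct : Finset GolayPt := Cfsg.Agent.Golay.toSet 8536111

theorem oct_mem : oct ∈ octads :=
  Golay.octad_mem_iff.2 ⟨8536111, by decide +kernel, by decide +kernel, rfl⟩

/-- A full two-subgroup of signed permutations whose commutant consists of four sign changes. -/
theorem exists_two_subgroup : ∃ P : Subgroup Co0, Nat.card P = 2 ^ 22 ∧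
    (∀ x ∈ P, ∃ (σ : M24) (c : Finset GolayPt) (hc : c ∈ code), x = mono σ hc ∧ σ.1 • oct = oct) ∧
    (∀ (c : Finset GolayPt) (hc : c ∈ code), mono 1 hc ∈ P) ∧
    (∀ k ∈ SporStruct.M24.pointFix oct, ∀ hk : k ∈ M24, mono ⟨k, hk⟩ empty_mem_code ∈ P) := by
  haveI : Fact (Nat.Prime 2) := ⟨Nat.prime_two⟩
  set S := SporStruct.M24.setStab oct
  have hS : S ≤ M24 := fun g hg => (SporStruct.M24.mem_setStab.1 hg).1
  set S' : Subgroup M24 := S.subgroupOf M24
  set Q' : Subgroup S := (SporStruct.M24.pointFix oct).subgroupOf S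
  have hQ : IsPGroup 2 Q' := IsPGroup.of_card (n := 4) (by
    rw [Nat.card_congr (Subgroup.subgroupOfEquivOfLe SporStruct.M24.pointFix_le_setStab).toEquiv,
      SporStruct.M24.card_pointFix oct_mem]
    norm_num)
  obtain ⟨R, hR⟩ := hQ.exists_le_sylow
  have hcard : Nat.card R = 2 ^ 10 := by
    have h : Nat.factorization (2 ^ 10 * 315) 2 = 10 := by
      rw [Nat.factorization_mul (by norm_num) (by norm_num), Finsupp.add_apply,
        Nat.Prime.factorization_pow Nat.prime_two, Finsupp.single_eq_same,
        Nat.factorization_eq_zero_of_not_dvd (n := 315) (by norm_num)]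
    rw [R.card_eq_multiplicity, SporStruct.M24.card_setStab oct_mem,
      show (322560 : ℕ) = 2 ^ 10 * 315 from by norm_num, h]
  set T : Subgroup M24 := ((R : Subgroup S).map (Subgroup.inclusion hS)) with hT
  have hTc : Nat.card T = 2 ^ 10 := by
    rw [hT, Nat.card_congr ((Subgroup.equivMapOfInjective _ _ (Subgroup.inclusion_injective hS)).symm).toEquiv,
      hcard]
  refine ⟨monoSub T, by rw [card_monoSub, hTc]; norm_num, ?_, ?_, ?_⟩
  · rintro _ ⟨σ, hσ, c, hc, rfl⟩
    obtain ⟨s, -, rfl⟩ := hσ
    exact ⟨_, c, hc, rfl, (SporStruct.M24.mem_setStab.1 s.2).2⟩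
  · exact fun c hc => ⟨1, T.one_mem, c, hc, rfl⟩
  · intro k hk hk'
    refine ⟨⟨k, hk'⟩, ?_, ∅, empty_mem_code, rfl⟩
    exact ⟨⟨k, SporStruct.M24.pointFix_le_setStab hk⟩, hR (Subgroup.mem_subgroupOf.2 hk), rfl⟩

/-- A set of at most four points containing a point is not orthogonal to the code. -/
theorem exists_code_separating {σ : M24} (hσ : σ * σ = 1) {p q : GolayPt} (hp : σ.1 p ≠ p)
    (h1 : q ≠ p) (h2 : q ≠ σ.1 p) :
    ∃ c ∈ code, σ.1 • c = c ∧ ¬ (p ∈ c ↔ q ∈ c) := by
  have hσ2 : ∀ x, σ.1 (σ.1 x) = x := fun x => DFunLike.congr_fun (congrArg Subtype.val hσ) x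
  let w : GolayPt → ZMod 2 :=
    Pi.single p 1 + Pi.single (σ.1 p) 1 + Pi.single q 1 + Pi.single (σ.1 q) 1
  have hsum : ∀ f : GolayPt → ZMod 2,
      ∑ i, w i * f i = f p + f (σ.1 p) + f q + f (σ.1 q) := fun f => by
    simp [w, add_mul, Finset.sum_add_distrib, Pi.single_apply]
  have hnot : ¬ ∀ f ∈ golayCode, ∑ i, w i * f i = 0 := by
    intro h
    have hw := Golay.mem_golayCode_of_orth h
    have hne : σ.1 q ≠ p := fun e => h2 (by rw [← e, hσ2])
    have hwp : w p = 1 := by
      simp [w, Ne.symm hp, Ne.symm h1, Ne.symm hne]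
    have hsub : support₂ w ⊆ ({p, σ.1 p, q, σ.1 q} : Finset GolayPt) := by
      intro i hi
      by_contra hn
      simp only [Finset.mem_insert, Finset.mem_singleton, not_or] at hn
      simp [support₂, w, hn.1, hn.2.1, hn.2.2.1, hn.2.2.2] at hi
    have h4 := (Finset.card_le_card hsub).trans Finset.card_le_four
    rcases Golay.supports_card_cases (Set.mem_image_of_mem support₂ hw) with e | e | e | e | e
    · have : p ∈ support₂ w := by simp [support₂, hwp]
      rw [e] at this
      exact absurd this (Finset.notMem_empty p)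
    all_goals omega
  obtain ⟨f, hf, hne⟩ : ∃ f, f ∈ golayCode ∧ ¬ ∑ i, w i * f i = 0 := by
    by_contra! h
    exact hnot h
  rw [hsum] at hne
  have hc : support₂ f ∈ code := Set.mem_image_of_mem support₂ hf
  refine ⟨symmDiff (support₂ f) (σ.1 • support₂ f), symmDiff_mem_code hc (smul_code σ hc), ?_, ?_⟩
  · rw [Finset.smul_finset_symmDiff, smul_smul,
      show σ.1 * σ.1 = 1 from congrArg Subtype.val hσ, one_smul, symmDiff_comm]
  · have hm : ∀ x, x ∈ symmDiff (support₂ f) (σ.1 • support₂ f) ↔ f x + f (σ.1 x) = 1 := by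
      intro x
      have e : x ∈ σ.1 • support₂ f ↔ σ.1 x ∈ support₂ f := by
        conv_lhs => rw [← hσ2 x]
        exact Finset.smul_mem_smul_finset_iff _
      rw [Finset.mem_symmDiff, e]
      rcases zmod2_cases (f x) with a | a <;> rcases zmod2_cases (f (σ.1 x)) with b | b <;>
        simp [support₂, a, b] <;> decide
    rw [hm, hm]
    revert hne
    rcases zmod2_cases (f p) with a | a <;> rcases zmod2_cases (f (σ.1 p)) with b | b <;>
      rcases zmod2_cases (f q) with a' | a' <;> rcases zmod2_cases (f (σ.1 q)) with b' | b' <;>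
      simp only [a, b, a', b'] <;> decide

/-- No integral plane rotation by an eighth of a turn. -/
theorem no_eighth_turn (x y r w : ℤ) (e f : ℤ) (he : e = 64 ∨ e = -64) (hf : f = 64 ∨ f = -64)
    (h1 : x * x + y * r = 0) (h2 : w * w + r * y = 0) (h3 : y * (x + w) = e) (h4 : r * (x + w) = f) :
    False := by
  have hs : x + w ≠ 0 := fun h => by rw [h, mul_zero] at h3; omega
  have hxw : x = w := by
    have : (x - w) * (x + w) = 0 := by linear_combination h1 - h2
    rcases mul_eq_zero.1 this with h | h
    · omega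
    · exact absurd h hs
  subst hxw
  have hx4 : x * x * (x * x) = 1024 := by
    have h5 : e * f = -(4 * (x * x) * (x * x)) := by
      rw [← h3, ← h4]
      linear_combination (4 * (x * x)) * h1
    rcases he with rfl | rfl <;> rcases hf with rfl | rfl <;> nlinarith
  have h6 : x * x = 32 := by
    have : (x * x - 32) * (x * x + 32) = 0 := by linear_combination hx4
    rcases mul_eq_zero.1 this with h | h <;> nlinarith
  have hb : -5 ≤ x ∧ x ≤ 5 := ⟨by nlinarith, by nlinarith⟩
  obtain ⟨hb1, hb2⟩ := hb
  interval_cases x <;> omega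

/-- The sign changes fixed by the permutation part have no commuting square root of the element. -/
theorem no_root {σ : M24} {c : Finset GolayPt} (hc : c ∈ code)
    (hσ : σ * σ = 1) (h1 : mono σ hc ≠ 1) (h2 : mono σ hc ≠ negOne) (b : Co0)
    (hb : ∀ (d : Finset GolayPt) (hd : d ∈ code), σ.1 • d = d → b * mono 1 hd = mono 1 hd * b) :
    b * b ≠ mono σ hc ∧ b * b ≠ mono σ hc * negOne := by
  have hcoord : ∀ (d : Finset GolayPt) (hd : d ∈ code), σ.1 • d = d → ∀ p q,
      ((b • frame p : leechLattice) : GolayPt → ℤ) q ≠ 0 → (p ∈ d ↔ q ∈ d) := by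
    intro d hd hfix p q hne
    have h := congrArg (fun g : Co0 => ((g • frame p : leechLattice) : GolayPt → ℤ) q) (hb d hd hfix)
    simp only [mul_smul, coe_mono_smul] at h
    have hone : ∀ r : GolayPt, (Equiv.symm (1 : Equiv.Perm GolayPt)) r = r := fun _ => rfl
    have e : mono 1 hd • frame p = if p ∈ d then -frame p else frame p := by
      apply Subtype.ext
      rw [coe_mono_frame]
      show Pi.single p _ = _
      by_cases hp : p ∈ d
      · simp [hp, frame]
        exact Pi.single_neg (f := fun _ : GolayPt => ℤ) p 8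
      · simp [hp, frame]
    rw [e] at h
    by_cases hp : p ∈ d <;> by_cases hq : q ∈ d
    · simp [hp, hq]
    · simp [hp, signedPerm, hq, hone] at h
      exact absurd (show ((b • frame p : leechLattice) : GolayPt → ℤ) q = 0 by
        simp [smul_neg'] at h; omega) hne
    · simp [hp, signedPerm, hq, hone] at h
      exact absurd (show ((b • frame p : leechLattice) : GolayPt → ℤ) q = 0 by omega) hne
    · simp [hp, hq]
  by_cases hσ1 : σ = 1
  · subst hσ1
    have hdiag : ∃ (d : Finset GolayPt) (hd : d ∈ code), b = mono 1 hd := by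
      obtain ⟨τ, d, hd, e⟩ := exists_eq_mono (g := b) (by
        rintro v ⟨i, s, hs, hv⟩
        have hfi : ∀ q, q ≠ i → ((b • frame i : leechLattice) : GolayPt → ℤ) q = 0 := by
          intro q hq
          by_contra hne
          obtain ⟨d, hd, hiq, hnq⟩ := exists_code_mem_notMem hq
          exact hnq ((hcoord d hd (one_smul _ _) i q hne).1 hiq)
        have hsq := sqNorm_smul b (frame i)
        have hv' : ((b • frame i : leechLattice) : GolayPt → ℤ) =
            Pi.single i (((b • frame i : leechLattice) : GolayPt → ℤ) i) := by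
          funext q
          by_cases hq : q = i
          · subst hq; simp
          · simp [hq, hfi q hq]
        have ht : ((b • frame i : leechLattice) : GolayPt → ℤ) i = 8 ∨
            ((b • frame i : leechLattice) : GolayPt → ℤ) i = -8 := by
          rw [hv'] at hsq
          generalize ((b • frame i : leechLattice) : GolayPt → ℤ) i = t at hsq
          simp [sqNorm, frame, Pi.single_apply] at hsq
          exact sq_eq_sq_iff_eq_or_eq_neg.1 (by simpa using hsq)
        have hve : v = frame i ∨ v = -frame i := by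
          rcases hs with rfl | rfl
          · exact Or.inl (Subtype.ext hv)
          · refine Or.inr (Subtype.ext ?_)
            rw [hv, AddSubgroup.coe_neg]
            exact Pi.single_neg (f := fun _ : GolayPt => ℤ) i 8
        rcases hve with rfl | rfl
        · rw [hv']; exact ⟨i, _, ht, rfl⟩
        · rw [smul_neg', AddSubgroup.coe_neg, hv']
          refine ⟨i, -((b • frame i : leechLattice) : GolayPt → ℤ) i, by omega, ?_⟩
          rw [← Pi.single_neg])
      refine ⟨d, hd, ?_⟩
      have : τ = 1 := Subtype.ext (Equiv.ext fun i => by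
        show τ.1 i = i
        by_contra hne
        obtain ⟨u, hu, hiu, hnu⟩ := exists_code_mem_notMem hne
        refine hnu ((hcoord u hu (one_smul _ _) i (τ.1 i) ?_).1 hiu)
        rw [e, coe_mono_frame, Pi.single_eq_same]
        split <;> norm_num)
      rw [e, this]
    obtain ⟨d, hd, rfl⟩ := hdiag
    have hsq : mono 1 hd * mono 1 hd = 1 := by
      rw [mono_mul', ← mono_one_one]
      exact mono_congr (mul_one 1) (by rw [Subgroup.coe_one, one_smul]; exact symmDiff_self d)
    rw [hsq]
    refine ⟨fun e => h1 e.symm, fun e => h2 ?_⟩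
    rw [← mul_inv_eq_iff_eq_mul.2 e, one_mul]
    exact inv_eq_of_mul_eq_one_right negOne_sq
  · obtain ⟨p, hp⟩ : ∃ p, σ.1 p ≠ p := by
      by_contra! h
      exact hσ1 (Subtype.ext (Equiv.ext h))
    set p' := σ.1 p with hp'
    have hσp' : σ.1 p' = p := DFunLike.congr_fun (congrArg Subtype.val hσ) p
    have hblock : ∀ r, r = p ∨ r = p' → ∀ q, q ≠ p → q ≠ p' →
        ((b • frame r : leechLattice) : GolayPt → ℤ) q = 0 := by
      intro r hr q hq1 hq2
      by_contra hne
      obtain ⟨d, hd, hfix, hsep⟩ := exists_code_separating hσ hp hq1 hq2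
      have h := hcoord d hd hfix r q hne
      apply hsep
      rcases hr with rfl | rfl
      · exact h
      · rw [← h]
        conv_rhs => rw [← hfix]
        rw [hp', ← Equiv.Perm.smul_def, Finset.smul_mem_smul_finset_iff]
    set v := ((b • frame p : leechLattice) : GolayPt → ℤ) with hv
    set v' := ((b • frame p' : leechLattice) : GolayPt → ℤ) with hv'
    have hsq : ∀ r k, (8 : ℤ) * (((b * b) • frame r : leechLattice) : GolayPt → ℤ) k =
        ∑ i, ((b • frame r : leechLattice) : GolayPt → ℤ) i *
          ((b • frame i : leechLattice) : GolayPt → ℤ) k := by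
      intro r k
      have := congrFun (coe_smul_eight b (b • frame r)) k
      simpa [mul_smul, Finset.sum_apply] using this
    have hpp : p ≠ p' := Ne.symm hp
    have hsum : ∀ r, r = p ∨ r = p' → ∀ k,
        ∑ i, ((b • frame r : leechLattice) : GolayPt → ℤ) i *
          ((b • frame i : leechLattice) : GolayPt → ℤ) k =
        ((b • frame r : leechLattice) : GolayPt → ℤ) p * v k +
          ((b • frame r : leechLattice) : GolayPt → ℤ) p' * v' k := by
      intro r hr k
      rw [← Finset.sum_subset (Finset.subset_univ ({p, p'} : Finset GolayPt)) ?_, Finset.sum_pair hpp]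
      intro i _ hi
      simp only [Finset.mem_insert, Finset.mem_singleton, not_or] at hi
      rw [hblock r hr i hi.1 hi.2, zero_mul]
    have key : ∀ g : Co0, g = mono σ hc ∨ g = mono σ hc * negOne →
        ((g • frame p : leechLattice) : GolayPt → ℤ) p = 0 ∧
        (((g • frame p : leechLattice) : GolayPt → ℤ) p' = 8 ∨
          ((g • frame p : leechLattice) : GolayPt → ℤ) p' = -8) ∧
        ((g • frame p' : leechLattice) : GolayPt → ℤ) p' = 0 ∧
        (((g • frame p' : leechLattice) : GolayPt → ℤ) p = 8 ∨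
          ((g • frame p' : leechLattice) : GolayPt → ℤ) p = -8) := by
      rintro g (rfl | rfl)
      · refine ⟨?_, ?_, ?_, ?_⟩ <;> rw [coe_mono_frame]
        · exact Pi.single_eq_of_ne hpp _
        · rw [← hp', Pi.single_eq_same]; split <;> simp
        · rw [hσp']; exact Pi.single_eq_of_ne hpp.symm _
        · rw [hσp', Pi.single_eq_same]; split <;> simp
      · refine ⟨?_, ?_, ?_, ?_⟩ <;>
          rw [mul_smul, negOne_smul, smul_neg', AddSubgroup.coe_neg, Pi.neg_apply, coe_mono_frame]
        · rw [Pi.single_eq_of_ne hpp, neg_zero]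
        · rw [← hp', Pi.single_eq_same]; split <;> simp
        · rw [hσp', Pi.single_eq_of_ne hpp.symm, neg_zero]
        · rw [hσp', Pi.single_eq_same]; split <;> simp
    have main : ∀ g : Co0, g = mono σ hc ∨ g = mono σ hc * negOne → b * b ≠ g := by
      intro g hg e
      obtain ⟨k1, k2, k3, k4⟩ := key g hg
      have a1 := (hsq p p).trans (hsum p (Or.inl rfl) p)
      have a2 := (hsq p p').trans (hsum p (Or.inl rfl) p')
      have a3 := (hsq p' p').trans (hsum p' (Or.inr rfl) p')
      have a4 := (hsq p' p).trans (hsum p' (Or.inr rfl) p)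
      rw [e] at a1 a2 a3 a4
      rw [← hv] at a1 a2
      rw [← hv'] at a3 a4
      rw [k1] at a1
      rw [k3] at a3
      exact no_eighth_turn (v p) (v p') (v' p) (v' p')
        (8 * ((g • frame p : leechLattice) : GolayPt → ℤ) p')
        (8 * ((g • frame p' : leechLattice) : GolayPt → ℤ) p) (by omega) (by omega)
        (by linarith) (by linarith) (by rw [a2]; ring) (by rw [a4]; ring)
    exact ⟨main _ (Or.inl rfl), main _ (Or.inr rfl)⟩

end Cfsg.Agent.Co0Standard47
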