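import Cfsg.Agent.Co0Standard47.Checks
import Cfsg.Agent.Co0Standard47.Mono
import Cfsg.Agent.SporStructure.HexadNormalizer
import Cfsg.Agent.SporStruct.M24Classes
import Cfsg.Agent.Lib.Golay.Transitive

/-!
Every involution of Co0 other than `-1` is conjugate to one of three sign changes.
-/

set_option autoImplicit false
set_option maxRecDepth 100000

namespace Cfsg.Agent.Co0Standard47

open Cfsg Cfsg.Agent.Leech
open Cfsg.Agent.Leech.Co1Cent (mono_congr mono_one_one xi xiA coe_xi_smul xiMat xiEnt xiFun)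
open Cfsg.Agent.Golay (pt idx idx_lt pt_idx idx_pt toSet popc inCode comb idTab inv8Tab inv0Tab Tab)
open Cfsg.Agent.SporStruct.CoMatrix (rows vecL mulM rows_mul rows_injective range_map_congr)
open Cfsg.Agent.SporStruct.OutCo1 (sMat rows_mono toSet_xor toSet_mem_code)
open Cfsg.Agent.SporStructure.Index56 (toSet_imgN)
open scoped Pointwise symmDiff

/-- A sign change given by a mask. -/
noncomputable def sgn (n : ℕ) : Co0 :=
  @dite _ (toSet n ∈ code) (Classical.dec _) (fun h => mono 1 h) fun _ => 1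

theorem sgn_eq {n : ℕ} (h : toSet n ∈ code) : sgn n = mono 1 h := dif_pos h

theorem sgn_mul {a b : ℕ} (ha : inCode a = true) (hb : inCode b = true) :
    sgn a * sgn b = sgn (a ^^^ b) := by
  have ha' := toSet_mem_code ha
  have hb' := toSet_mem_code hb
  have hab : toSet (a ^^^ b) ∈ code := by rw [toSet_xor]; exact symmDiff_mem_code ha' hb'
  rw [sgn_eq ha', sgn_eq hb', sgn_eq hab, mono_mul']
  exact mono_congr (one_mul 1) (by rw [toSet_xor, Subgroup.coe_one, one_smul])

theorem rows_xi : rows xi = xiTab := by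
  refine range_map_congr fun i hi => ?_
  rw [coe_xi_smul]
  refine List.map_congr_left fun k hk => ?_
  show xiFun (frame (pt i) : GolayPt → ℤ) (pt k) = 4 * xiEnt (pt k) (pt i)
  have : xiA (frame (pt i) : GolayPt → ℤ) (pt k) = 2 * (4 * xiEnt (pt k) (pt i)) := by
    show Matrix.mulVec xiMat (Pi.single (pt i) 8) (pt k) = _
    rw [Matrix.mulVec, dotProduct, Finset.sum_eq_single (pt i)]
    · rw [Pi.single_eq_same]
      show xiEnt (pt k) (pt i) * 8 = _
      ring
    · intro j _ hj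
      rw [Pi.single_eq_of_ne hj, mul_zero]
    · intro h
      exact absurd (Finset.mem_univ _) h
  show xiA (frame (pt i) : GolayPt → ℤ) (pt k) / 2 = _
  omega

/-- The three kinds. -/
def IsType (x : Co0) : Prop :=
  x = 1 ∨ x = negOne ∨ IsConj x (sgn oN) ∨ IsConj x (sgn ocN) ∨ IsConj x (sgn dN)

theorem IsType.conj {x y : Co0} (h : IsConj x y) (hy : IsType y) : IsType x := by
  rcases hy with rfl | rfl | hy | hy | hy
  · exact Or.inl (isConj_one_left.1 h)
  · refine Or.inr (Or.inl ?_)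
    obtain ⟨c, hc⟩ := isConj_iff.1 h
    rw [mul_inv_eq_iff_eq_mul, ← Subgroup.mem_center_iff.1 negOne_mem_center (c : Co0)] at hc
    exact mul_left_cancel hc
  · exact Or.inr (Or.inr (Or.inl (h.trans hy)))
  · exact Or.inr (Or.inr (Or.inr (Or.inl (h.trans hy))))
  · exact Or.inr (Or.inr (Or.inr (Or.inr (h.trans hy))))

/-- Conjugation of a sign change by a permutation. -/
theorem isConj_smul (g : M24) {c : Finset GolayPt} (hc : c ∈ code) :
    IsConj (mono 1 hc) (mono 1 (smul_code g hc)) := by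
  refine isConj_iff.2 ⟨mono g empty_mem_code, ?_⟩
  rw [mul_inv_eq_iff_eq_mul, mono_mul', mono_mul']
  refine mono_congr ?_ ?_
  · rw [mul_one, one_mul]
  · rw [Subgroup.coe_one, one_smul, ← Finset.bot_eq_empty, bot_symmDiff, symmDiff_bot]

theorem isConj_congr {x : Co0} {c d : Finset GolayPt} {hc : c ∈ code} {hd : d ∈ code}
    (h : IsConj x (mono 1 hc)) (e : c = d) : IsConj x (mono 1 hd) := by
  subst e; exact h

theorem isType_sign {c : Finset GolayPt} (hc : c ∈ code) : IsType (mono 1 hc) := by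
  obtain ⟨⟨o1, o2⟩, ⟨q1, q2⟩, ⟨d1, d2⟩, hoc⟩ := word_facts
  rcases Golay.supports_card_cases hc with e | e | e | e | e
  · exact Or.inl ((mono_congr rfl e).trans mono_one_one)
  · obtain ⟨g, hg, hgc⟩ := Golay.octad_transitive (o := c) (o' := toSet oN)
      ⟨hc, e⟩ (Golay.octad_mem_iff.2 ⟨_, o1, o2, rfl⟩)
    refine Or.inr (Or.inr (Or.inl ?_))
    rw [sgn_eq (toSet_mem_code o1)]
    exact isConj_congr (isConj_smul ⟨g, hg⟩ hc) hgc
  · obtain ⟨g, hg, hgc⟩ := Golay.dodecad_transitive (d := c) (d' := toSet dN)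
      ⟨hc, e⟩ (Golay.dodecad_mem_iff.2 ⟨_, d1, d2, rfl⟩)
    refine Or.inr (Or.inr (Or.inr (Or.inr ?_)))
    rw [sgn_eq (toSet_mem_code d1)]
    exact isConj_congr (isConj_smul ⟨g, hg⟩ hc) hgc
  · obtain ⟨g, hg, hgc⟩ := Golay.octad_transitive (o := cᶜ) (o' := toSet oN)
      ⟨compl_mem_code hc, by rw [Finset.card_compl, Golay.card_golayPt, e]⟩
      (Golay.octad_mem_iff.2 ⟨_, o1, o2, rfl⟩)
    refine Or.inr (Or.inr (Or.inr (Or.inl ?_)))
    rw [sgn_eq (toSet_mem_code q1)]
    refine isConj_congr (isConj_smul ⟨g, hg⟩ hc) ?_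
    show g • c = toSet ocN
    rw [← hoc, toSet_xor, ← hgc, show toSet (2 ^ 24 - 1) = (Finset.univ : Finset GolayPt) by
      decide +kernel]
    ext p
    simp [Finset.mem_symmDiff, ← Finset.inv_smul_mem_iff]
  · refine Or.inr (Or.inl ?_)
    rw [negOne_eq]
    refine mono_congr rfl (Finset.eq_univ_of_card c ?_)
    rw [Golay.card_golayPt, e]

theorem kindTab_tab (k : ℕ) : ∃ r : M24, Tab r.1 (kindTab k) ∧ r * r = 1 := by
  obtain ⟨-, -, h8, h0, -⟩ := Golay.invol_facts
  simp only [Bool.and_eq_true, beq_iff_eq, decide_eq_true_eq] at h8 h0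
  have main : ∀ l, (hp : Golay.isPermTab l = true) → Golay.checkAut l = true →
      Golay.comp l l = idTab → ∃ r : M24, Tab r.1 l ∧ r * r = 1 := by
    intro l hp ha hc
    have t := Golay.tab_permOf hp
    exact ⟨⟨_, t.mem_M24 ha⟩, t, Subtype.ext (Golay.tab_unique (hc ▸ t.mul t) Golay.tab_one)⟩
  unfold kindTab
  split
  · exact main _ h8.1.1.1 h8.1.1.2 h8.1.2
  · exact main _ h0.1.1.1 h0.1.1.2 h0.1.2

/-- The involutory signed permutations over a standard involution. -/
theorem isType_kind {k : ℕ} (hk : k = 0 ∨ k = 1) {r : M24} (hr : Tab r.1 (kindTab k))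
    (hr2 : r * r = 1) {c : Finset GolayPt} (hc : c ∈ code) (hfix : r.1 • c = c) :
    IsType (mono r hc) := by
  obtain ⟨n, hn, rfl⟩ := Golay.mem_supports_iff.1 hc
  have hn4 : comb (n % 4096) = n := beq_iff_eq.1 hn
  have hfe := List.all_eq_true.1 fixed_ok (n % 4096) (List.mem_range.2 (Nat.mod_lt _ (by norm_num)))
  rw [hn4, Bool.and_eq_true] at hfe
  have hok : fixedOK k n = true := by
    rcases hk with rfl | rfl
    exacts [hfe.1, hfe.2]
  rw [toSet_imgN hr n] at hfix
  have himg := Golay.toSet_injOn (SporStructure.Index56.imgN_lt hr n) (Golay.inCode_lt hn) hfix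
  simp only [fixedOK, Bool.or_eq_true, bne_iff_ne, ne_eq, himg, not_true_eq_false, false_or,
    List.any_eq_true, Bool.and_eq_true, beq_iff_eq] at hok
  obtain ⟨⟨k', c', h, e, d⟩, hq, rfl, ea, hea, heq⟩ := hok
  have hrep := List.all_eq_true.1 reps_ok _ hq
  simp only [repOK, Bool.and_eq_true, decide_eq_true_eq] at hrep
  obtain ⟨⟨⟨⟨⟨hp, hA⟩, hc'⟩, he⟩, hd⟩, hmat⟩ := hrep
  simp only at heq hea
  have hea' : inCode ea = true := by
    refine List.all_eq_true.1 pre_ok ea (List.mem_append.2 ?_)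
    rcases hk with rfl | rfl
    · exact Or.inl hea
    · exact Or.inr hea
  -- a commutator moves the sign set to the representative
  have hce := toSet_mem_code hc'
  have hee := toSet_mem_code hea'
  have step : IsConj (mono r hc) (mono r hce) := by
    refine isConj_iff.2 ⟨mono 1 hee, ?_⟩
    rw [mul_inv_eq_iff_eq_mul, mono_mul', mono_mul']
    refine mono_congr (by rw [one_mul, mul_one]) ?_
    rw [Subgroup.coe_one, one_smul, toSet_imgN hr, heq, toSet_xor, toSet_xor]
    ext p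
    simp only [Finset.mem_symmDiff]
    tauto
  have th := Golay.tab_permOf hp
  let g : Co0 := xi * mono ⟨_, th.mem_M24 hA⟩ (toSet_mem_code he)
  have hrm : rows (g * mono r hce) = rows (mono 1 (toSet_mem_code hd) * g) := by
    simp only [g, rows_mul]
    rw [rows_mono th (toSet_mem_code he), rows_mono hr hce,
      rows_mono (σ := 1) (l := idTab) Golay.tab_one (toSet_mem_code hd), rows_xi]
    rw [← hmat]
    have hassoc : ∀ A B C : Co0, mulM (mulM (rows A) (rows B)) (rows C) =
        mulM (rows A) (mulM (rows B) (rows C)) := by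
      intro A B C
      rw [← rows_mul, ← rows_mul, ← rows_mul, ← rows_mul, mul_assoc]
    have := hassoc xi (mono ⟨_, th.mem_M24 hA⟩ (toSet_mem_code he)) (mono r hce)
    rw [rows_mono th (toSet_mem_code he), rows_mono hr hce, rows_xi] at this
    exact this
  refine IsType.conj (step.trans (isConj_iff.2 ⟨g, ?_⟩)) (isType_sign (toSet_mem_code hd))
  rw [mul_inv_eq_iff_eq_mul]
  exact rows_injective hrm

/-- An involutory signed permutation is of one of the three kinds. -/
theorem isType_mono {σ : M24} {c : Finset GolayPt} (hc : c ∈ code)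
    (h : mono σ hc * mono σ hc = 1) : IsType (mono σ hc) := by
  have hσ2 := mono_sq_one_or_neg hc (Or.inl h)
  by_cases h1 : σ = 1
  · subst h1; exact isType_sign hc
  rw [mono_mul', ← mono_one_one] at h
  have hfix : σ.1 • c = c := (symmDiff_eq_bot.1 (mono_injective h).2).symm
  haveI : Fact (Nat.Prime 2) := ⟨Nat.prime_two⟩
  have ho : orderOf σ.1 = 2 := orderOf_eq_prime
    (by rw [pow_two]; exact congrArg Subtype.val hσ2) (fun e => h1 (Subtype.ext e))
  obtain ⟨g, hg, r, hr⟩ := Golay.exists_rep_involution σ.2 ho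
  obtain ⟨k, hk, hrt, hre⟩ : ∃ k, (k = 0 ∨ k = 1) ∧ Tab r (kindTab k) ∧ g * r * g⁻¹ = σ.1 := by
    rcases hr with ⟨t, e⟩ | ⟨t, e⟩
    · exact ⟨0, Or.inl rfl, t, e⟩
    · exact ⟨1, Or.inr rfl, t, e⟩
  obtain ⟨r', hr', hr2⟩ := kindTab_tab k
  obtain rfl : r'.1 = r := Golay.tab_unique hr' hrt
  set G : M24 := ⟨g, hg⟩
  have hσe : G * r' * G⁻¹ = σ := Subtype.ext hre
  have hc2 : ((G⁻¹ : M24) : Equiv.Perm GolayPt) • c ∈ code := smul_code G⁻¹ hc
  have hconj : IsConj (mono σ hc) (mono r' hc2) := by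
    refine isConj_iff.2 ⟨mono G⁻¹ empty_mem_code, ?_⟩
    rw [mul_inv_eq_iff_eq_mul, mono_mul', mono_mul']
    refine mono_congr ?_ ?_
    · rw [← hσe]; group
    · rw [← Finset.bot_eq_empty, bot_symmDiff, Finset.bot_eq_empty, Finset.smul_finset_empty,
        ← Finset.bot_eq_empty, symmDiff_bot]
  refine IsType.conj hconj (isType_kind hk hr' hr2 hc2 ?_)
  rw [show r'.1 = ((G⁻¹ * σ * G : M24) : Equiv.Perm GolayPt) by rw [← hσe]; simp [mul_assoc]]
  rw [smul_smul, ← Subgroup.coe_mul, mul_assoc, mul_inv_cancel, mul_one, Subgroup.coe_mul, mul_smul,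
    hfix]

/-- Every two-element is conjugate to a signed permutation. -/
theorem exists_conj_mono {x : Co0} (h : ∃ k : ℕ, x ^ 2 ^ k = 1) :
    ∃ (σ : M24) (c : Finset GolayPt) (hc : c ∈ code), IsConj x (mono σ hc) := by
  haveI := finite_co0
  haveI : Fact (Nat.Prime 2) := ⟨Nat.prime_two⟩
  obtain ⟨P, hP, hmono, -, -⟩ := exists_two_subgroup
  have hfac : (Nat.card Co0).factorization 2 = 22 := by
    have h : Nat.factorization (2 ^ 22 * 1982582476875) 2 = 22 := by
      rw [Nat.factorization_mul (by norm_num) (by norm_num), Finsupp.add_apply,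
        Nat.Prime.factorization_pow Nat.prime_two, Finsupp.single_eq_same,
        Nat.factorization_eq_zero_of_not_dvd (n := 1982582476875) (by norm_num)]
    rw [S0397.result, show (8315553613086720000 : ℕ) = 2 ^ 22 * 1982582476875 from by norm_num, h]
  let S : Sylow 2 Co0 := Sylow.ofCard P (by rw [hP, hfac])
  have hx : IsPGroup 2 (Subgroup.zpowers x) := by
    rintro ⟨y, hy⟩
    obtain ⟨n, rfl⟩ := Subgroup.mem_zpowers_iff.1 hy
    obtain ⟨k, hk⟩ := h
    refine ⟨k, Subtype.ext ?_⟩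
    show (x ^ n) ^ 2 ^ k = 1
    rw [← zpow_natCast, ← zpow_mul, mul_comm, zpow_mul, zpow_natCast, hk, one_zpow]
  obtain ⟨S', hS'⟩ := hx.exists_le_sylow
  obtain ⟨g, hg⟩ := MulAction.exists_smul_eq Co0 S' S
  have hmem : g * x * g⁻¹ ∈ P := by
    have h1 : g * x * g⁻¹ ∈ ((g • S' : Sylow 2 Co0) : Subgroup Co0) :=
      ⟨x, hS' (Subgroup.mem_zpowers x), rfl⟩
    rw [hg] at h1
    exact h1
  obtain ⟨σ, c, hc, e, -⟩ := hmono _ hmem
  exact ⟨σ, c, hc, isConj_iff.2 ⟨g, e⟩⟩

/-- The three classes of involutions. -/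
theorem isType_of_sq {x : Co0} (h : x * x = 1) : IsType x := by
  obtain ⟨σ, c, hc, hconj⟩ := exists_conj_mono (x := x) ⟨1, by rw [pow_one, pow_two, h]⟩
  refine IsType.conj hconj (isType_mono hc ?_)
  obtain ⟨g, e⟩ := isConj_iff.1 hconj
  rw [← e]
  calc g * x * g⁻¹ * (g * x * g⁻¹) = g * (x * x) * g⁻¹ := by group
    _ = 1 := by rw [h]; group

end Cfsg.Agent.Co0Standard47
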