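/-!
Representatives of the involutions among the signed permutations, with a conjugation to a sign change.
-/

set_option autoImplicit false

namespace Cfsg.Agent.Co0Standard47

/-- Kind of permutation, sign set, permutation and sign set of the conjugating element, resulting sign set. -/
def repData : List (Nat × Nat × List Nat × Nat × Nat) := [
  (0, 0, [19, 5, 14, 23, 13, 0, 8, 1, 22, 17, 6, 15, 4, 10, 11, 3, 20, 18, 9, 12, 21, 2, 16, 7], 9010174, 545190),
  (0, 13062145, [8, 23, 2, 1, 20, 0, 16, 3, 15, 5, 22, 9, 7, 10, 11, 14, 21, 12, 19, 13, 4, 17, 6, 18], 283537, 11221196),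
  (0, 421910, [5, 8, 11, 3, 1, 14, 15, 4, 21, 20, 13, 7, 2, 0, 12, 9, 6, 18, 23, 10, 16, 22, 19, 17], 16737958, 9908775),
  (0, 12656663, [6, 7, 19, 22, 18, 16, 2, 0, 14, 15, 9, 3, 17, 8, 4, 20, 11, 13, 5, 1, 10, 23, 12, 21], 12482405, 13442945),
  (0, 4989254, [11, 22, 13, 5, 15, 17, 4, 12, 6, 23, 3, 20, 9, 19, 2, 1, 10, 0, 21, 16, 14, 8, 7, 18], 14801403, 15233482),
  (0, 9138503, [13, 0, 2, 8, 9, 11, 18, 7, 14, 4, 1, 15, 17, 5, 6, 22, 3, 21, 20, 12, 23, 19, 10, 16], 9599546, 9400490),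
  (0, 4870480, [6, 23, 2, 18, 20, 12, 14, 8, 15, 0, 21, 13, 10, 22, 5, 1, 4, 17, 16, 3, 7, 11, 9, 19], 2605066, 10129252),
  (0, 9240913, [1, 15, 10, 3, 8, 17, 23, 20, 18, 14, 4, 19, 21, 6, 22, 5, 11, 13, 12, 0, 16, 9, 7, 2], 12815958, 8772913),
  (0, 1009728, [11, 3, 17, 1, 9, 2, 6, 23, 20, 14, 8, 4, 15, 16, 19, 5, 22, 7, 13, 21, 12, 0, 10, 18], 13428246, 4927902),
  (0, 13121601, [14, 2, 1, 22, 18, 4, 5, 0, 11, 13, 7, 20, 15, 10, 21, 16, 8, 19, 12, 17, 6, 23, 9, 3], 8049738, 12297761),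
  (0, 596054, [22, 21, 7, 23, 10, 0, 6, 4, 3, 12, 2, 20, 15, 5, 18, 11, 9, 8, 14, 19, 1, 16, 17, 13], 11223950, 5815878),
  (0, 13518935, [17, 6, 7, 13, 1, 4, 16, 10, 11, 5, 19, 0, 12, 18, 9, 3, 8, 20, 2, 22, 21, 15, 23, 14], 7959832, 12214807),
  (0, 4409606, [0, 12, 18, 23, 9, 1, 4, 21, 14, 13, 19, 5, 20, 15, 8, 16, 17, 11, 10, 22, 7, 6, 3, 2], 3569866, 6441341),
  (0, 8657159, [17, 5, 3, 15, 4, 20, 21, 19, 2, 8, 12, 0, 1, 22, 10, 11, 16, 9, 23, 6, 18, 7, 13, 14], 3452361, 11569519),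
  (0, 4536592, [3, 19, 6, 10, 0, 15, 20, 11, 22, 5, 7, 1, 16, 4, 8, 14, 13, 18, 23, 9, 21, 12, 2, 17], 15238990, 13237367),
  (0, 8546577, [15, 6, 21, 19, 16, 7, 1, 17, 22, 3, 0, 13, 12, 4, 20, 14, 18, 9, 8, 23, 2, 5, 11, 10], 11423088, 6530165),
  (1, 0, [14, 4, 22, 8, 12, 11, 21, 19, 13, 0, 6, 16, 17, 18, 9, 7, 10, 20, 5, 1, 23, 2, 15, 3], 6503724, 9157218)]

/-- Sign sets giving all commutators with the first kind. -/
def pre8 : List Nat := [0, 2076750, 2605066, 3698756, 4845570, 5652556, 7221256, 7438406, 8581192, 10305542, 10825794, 12222476, 13303882, 13938692, 15515712, 15953934]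

/-- Sign sets giving all commutators with the second kind. -/
def pre0 : List Nat := [0, 180636, 307594, 421910, 1613974, 1728778, 1839388, 2019456, 2207772, 2322816, 2425238, 2605066, 3739786, 3920150, 4038912, 4153500, 4845570, 4927902, 5063048, 5210132, 5329044, 5476616, 5628190, 5709954, 6832158, 6979970, 7139732, 7221256, 7397512, 7479572, 7622914, 7770270, 8474906, 8622214, 8773776, 8855820, 10088844, 10170384, 10305542, 10453402, 10543366, 10625178, 10768524, 10916112, 12075408, 12222476, 12382234, 12464518, 13148440, 13262980, 13373586, 13553934, 13631886, 13811730, 13938692, 14053784, 15274244, 15454360, 15573134, 15687954, 15839634, 15953934, 16056344, 16236932]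

end Cfsg.Agent.Co0Standard47
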