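import Cfsg.Agent.Co0Standard47.Classes
import Cfsg.Agent.Lib.Leech.Co1Cent.Extra
import Cfsg.Agent.SporStruct.OutCo1
import Cfsg.Agent.Lib.Schur.Perfect

/-!
The facts about Co0 used for a standard component of this shape.
-/

set_option autoImplicit false
set_option maxRecDepth 100000

namespace Cfsg.Agent.Co0Standard47

open Cfsg Cfsg.Agent.Leech
open Cfsg.Agent.Leech.Co1Cent (mono_congr mono_one_one)
open Cfsg.Agent.Golay (toSet inCode popc)
open Cfsg.Agent.SporStruct.OutCo1 (toSet_xor toSet_mem_code)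
open scoped Pointwise symmDiff

theorem mono_one_sq {c : Finset GolayPt} (hc : c ∈ code) : mono 1 hc * mono 1 hc = 1 := by
  rw [mono_mul', ← mono_one_one]
  exact mono_congr (mul_one 1) (by rw [Subgroup.coe_one, one_smul]; exact symmDiff_self c)

theorem negOne_comm (x : Co0) : x * negOne = negOne * x :=
  Subgroup.mem_center_iff.1 negOne_mem_center x

theorem sgn_negOne : sgn oN * negOne = sgn ocN := by
  obtain ⟨⟨o1, -⟩, ⟨q1, -⟩, -, hoc⟩ := word_facts
  rw [sgn_eq (toSet_mem_code o1), sgn_eq (toSet_mem_code q1), negOne_eq, mono_mul']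
  refine mono_congr (one_mul 1) ?_
  rw [Subgroup.coe_one, one_smul, ← SporStruct.OutCo1.toSet_allMask, ← toSet_xor]
  exact congrArg toSet hoc

/-- A square root of neither an element nor its negative commutes with a suitable two-subgroup of
its centraliser. -/
theorem root_fact {a : Co0} (h1 : a ≠ 1) (h2 : a ≠ negOne) (h : a * a = 1 ∨ a * a = negOne) :
    ∃ P : Subgroup Co0, IsPGroup 2 P ∧ (∀ p ∈ P, p * a = a * p) ∧
      ∀ b : Co0, (∀ p ∈ P, b * p = p * b) → b * b ≠ a ∧ b * b ≠ a * negOne := by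
  have h4 : a ^ 2 ^ 2 = 1 := by
    rw [show 2 ^ 2 = 2 + 2 by norm_num, pow_add, pow_two]
    rcases h with h | h <;> rw [h]
    · rw [one_mul]
    · exact negOne_sq
  obtain ⟨σ, c, hc, hconj⟩ := exists_conj_mono (x := a) ⟨2, h4⟩
  obtain ⟨g, hg⟩ := isConj_iff.1 hconj
  set m := mono σ hc with hm
  have hm1 : m ≠ 1 := fun e => h1 (by
    rw [← hg] at e
    rw [show a = g⁻¹ * (g * a * g⁻¹) * g by group, e]; group)
  have hm2 : m ≠ negOne := fun e => h2 (by
    rw [← hg] at e
    rw [show a = g⁻¹ * (g * a * g⁻¹) * g by group, e, mul_assoc, ← negOne_comm g, ← mul_assoc,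
      inv_mul_cancel, one_mul])
  have hσ : σ * σ = 1 := by
    refine mono_sq_one_or_neg hc ?_
    rw [← hm, ← hg, show g * a * g⁻¹ * (g * a * g⁻¹) = g * (a * a) * g⁻¹ by group]
    rcases h with h | h <;> rw [h]
    · exact Or.inl (by group)
    · exact Or.inr (by rw [negOne_comm g, mul_inv_cancel_right])
  -- the sign changes fixed by `σ`, carried back
  let P : Subgroup Co0 :=
    { carrier := {x | ∃ (d : Finset GolayPt) (hd : d ∈ code), σ.1 • d = d ∧ g * x * g⁻¹ = mono 1 hd}
      one_mem' := ⟨∅, empty_mem_code, Finset.smul_finset_empty _, by rw [mono_one_one]; group⟩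
      mul_mem' := by
        rintro x y ⟨d, hd, hf, hx⟩ ⟨e, he, hf', hy⟩
        refine ⟨symmDiff d e, symmDiff_mem_code hd he, ?_, ?_⟩
        · rw [Finset.smul_finset_symmDiff, hf, hf']
        · rw [show g * (x * y) * g⁻¹ = (g * x * g⁻¹) * (g * y * g⁻¹) by group, hx, hy, mono_mul']
          exact mono_congr (one_mul 1) (by rw [Subgroup.coe_one, one_smul])
      inv_mem' := by
        rintro x ⟨d, hd, hf, hx⟩
        refine ⟨d, hd, hf, ?_⟩
        rw [show g * x⁻¹ * g⁻¹ = (g * x * g⁻¹)⁻¹ by group, hx]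
        exact inv_eq_of_mul_eq_one_right (mono_one_sq hd) }
  refine ⟨P, ?_, ?_, ?_⟩
  · rintro ⟨x, d, hd, hf, hx⟩
    refine ⟨1, Subtype.ext ?_⟩
    show x ^ 2 ^ 1 = 1
    have hx' : x = g⁻¹ * mono 1 hd * g := by rw [← hx]; group
    rw [pow_one, pow_two, hx', show g⁻¹ * mono 1 hd * g * (g⁻¹ * mono 1 hd * g) =
      g⁻¹ * (mono 1 hd * mono 1 hd) * g by group, mono_one_sq hd]
    group
  · rintro p ⟨d, hd, hf, hp⟩
    have hcomm : mono 1 hd * m = m * mono 1 hd := by
      rw [hm, mono_mul', mono_mul']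
      refine mono_congr (by rw [one_mul, mul_one]) ?_
      rw [Subgroup.coe_one, one_smul, hf, symmDiff_comm]
    rw [← hg, ← hp] at hcomm
    have h' : g * (p * a) * g⁻¹ = g * (a * p) * g⁻¹ := by
      calc g * (p * a) * g⁻¹ = g * p * g⁻¹ * (g * a * g⁻¹) := by group
        _ = g * a * g⁻¹ * (g * p * g⁻¹) := hcomm
        _ = _ := by group
    exact mul_left_cancel (mul_right_cancel h')
  · intro b hb
    have hb' : ∀ (d : Finset GolayPt) (hd : d ∈ code), σ.1 • d = d →
        g * b * g⁻¹ * mono 1 hd = mono 1 hd * (g * b * g⁻¹) := by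
      intro d hd hf
      have hp : g⁻¹ * mono 1 hd * g ∈ P := ⟨d, hd, hf, by group⟩
      calc g * b * g⁻¹ * mono 1 hd = g * (b * (g⁻¹ * mono 1 hd * g)) * g⁻¹ := by group
        _ = g * ((g⁻¹ * mono 1 hd * g) * b) * g⁻¹ := by rw [hb _ hp]
        _ = _ := by group
    obtain ⟨r1, r2⟩ := no_root hc hσ hm1 hm2 _ hb'
    refine ⟨fun e => r1 ?_, fun e => r2 ?_⟩
    · rw [← hm, ← hg, ← e]; group
    · rw [← hm, ← hg, show g * b * g⁻¹ * (g * b * g⁻¹) = g * (b * b) * g⁻¹ by group, e]
      calc g * (a * negOne) * g⁻¹ = g * a * (negOne * g⁻¹) := by group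
        _ = g * a * (g⁻¹ * negOne) := by rw [negOne_comm g⁻¹]
        _ = _ := by group

/-- An element commuting with all sign changes is one of them. -/
theorem sign_of_commute {b : Co0} (hb : ∀ (d : Finset GolayPt) (hd : d ∈ code),
    b * mono 1 hd = mono 1 hd * b) : ∃ (d : Finset GolayPt) (hd : d ∈ code), b = mono 1 hd := by
  have hone : ∀ r : GolayPt, (Equiv.symm (1 : Equiv.Perm GolayPt)) r = r := fun _ => rfl
  have hfi : ∀ p q, q ≠ p → ((b • frame p : leechLattice) : GolayPt → ℤ) q = 0 := by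
    intro p q hqp
    obtain ⟨d, hd, hp, hq⟩ := exists_code_mem_notMem hqp
    have h := congrArg (fun g : Co0 => ((g • frame p : leechLattice) : GolayPt → ℤ) q) (hb d hd)
    have e : mono 1 hd • frame p = -frame p := by
      apply Subtype.ext
      rw [coe_mono_frame]
      simp [hp, frame]
      exact Pi.single_neg (f := fun _ : GolayPt => ℤ) p 8
    simp only [mul_smul, e, coe_mono_smul, smul_neg', AddSubgroup.coe_neg, Pi.neg_apply] at h
    simp [signedPerm, hq, hone] at h
    omega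
  obtain ⟨τ, d, hd, e⟩ := exists_eq_mono (g := b) (by
    rintro v ⟨i, s, hs, hv⟩
    have hv' : ((b • frame i : leechLattice) : GolayPt → ℤ) =
        Pi.single i (((b • frame i : leechLattice) : GolayPt → ℤ) i) := by
      funext q
      by_cases hq : q = i
      · subst hq; simp
      · simp [hq, hfi i q hq]
    have ht : ((b • frame i : leechLattice) : GolayPt → ℤ) i = 8 ∨
        ((b • frame i : leechLattice) : GolayPt → ℤ) i = -8 := by
      have hsq := sqNorm_smul b (frame i)
      rw [hv'] at hsq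
      generalize ((b • frame i : leechLattice) : GolayPt → ℤ) i = t at hsq
      simp [sqNorm, frame, Pi.single_apply] at hsq
      exact sq_eq_sq_iff_eq_or_eq_neg.1 (by simpa using hsq)
    have hve : v = frame i ∨ v = -frame i := by
      rcases hs with rfl | rfl
      · exact Or.inl (Subtype.ext hv)
      · refine Or.inr (Subtype.ext ?_)
        rw [hv, AddSubgroup.coe_neg]
        exact Pi.single_neg (f := fun _ : GolayPt => ℤ) i 8
    rcases hve with rfl | rfl
    · rw [hv']; exact ⟨i, _, ht, rfl⟩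
    · rw [smul_neg', AddSubgroup.coe_neg, hv']
      refine ⟨i, -((b • frame i : leechLattice) : GolayPt → ℤ) i, by omega, ?_⟩
      rw [← Pi.single_neg])
  refine ⟨d, hd, ?_⟩
  have : τ = 1 := Subtype.ext (Equiv.ext fun i => by
    show τ.1 i = i
    by_contra hne
    have := hfi i (τ.1 i) hne
    rw [e, coe_mono_frame, Pi.single_eq_same] at this
    split at this <;> norm_num at this)
  rw [e, this]

/-- A full two-subgroup, centralised exactly by the four sign changes on an octad. -/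
theorem sylow_fact : ∃ P : Subgroup Co0, Nat.card P = 2 ^ 22 ∧
    (∀ p ∈ P, p * sgn oN = sgn oN * p) ∧
    ∀ b : Co0, (∀ p ∈ P, b * p = p * b) →
      b = 1 ∨ b = negOne ∨ b = sgn oN ∨ b = sgn ocN := by
  obtain ⟨P, hcard, hmem, hdiag, htr⟩ := exists_two_subgroup
  obtain ⟨⟨o1, -⟩, ⟨q1, -⟩, -, -⟩ := word_facts
  refine ⟨P, hcard, ?_, ?_⟩
  · intro p hp
    obtain ⟨σ, c, hc, rfl, hfix⟩ := hmem p hp
    rw [sgn_eq (toSet_mem_code o1), mono_mul', mono_mul']
    refine mono_congr (by rw [one_mul, mul_one]) ?_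
    rw [Subgroup.coe_one, one_smul, hfix, symmDiff_comm]
  · intro b hb
    obtain ⟨d, hd, rfl⟩ := sign_of_commute fun d hd => hb _ (hdiag d hd)
    have hinv : ∀ k ∈ SporStruct.M24.pointFix oct, k • d = d := by
      intro k hk
      have hk' : k ∈ M24 := (SporStruct.M24.mem_pointFix.1 hk).1
      have h := hb _ (htr k hk hk')
      rw [mono_mul', mono_mul'] at h
      have h2 := (mono_injective h).2
      rw [Finset.smul_finset_empty, ← Finset.bot_eq_empty, symmDiff_bot, bot_symmDiff] at h2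
      exact h2.symm
    have hout : ∀ p q, p ∉ oct → q ∉ oct → p ∈ d → q ∈ d := by
      intro p q hp hq hpd
      obtain ⟨k, hk, rfl⟩ := SporStruct.M24.exists_pointFix_map oct_mem hp hq
      rw [← hinv k hk]
      exact Finset.smul_mem_smul_finset hpd
    -- the part inside the octad
    have inside : ∀ e ∈ code, e ⊆ oct → e = ∅ ∨ e = oct := by
      intro e he hsub
      have h8 := Finset.card_le_card hsub
      rw [Golay.card_of_mem_octads oct_mem] at h8
      rcases Golay.supports_card_cases he with h | h | h | h | h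
      · exact Or.inl h
      · exact Or.inr (Finset.eq_of_subset_of_card_le hsub
          (by rw [Golay.card_of_mem_octads oct_mem, h]))
      all_goals omega
    by_cases hall : ∀ p, p ∉ oct → p ∈ d
    · rcases inside dᶜ (compl_mem_code hd) (fun p hp => by
        by_contra hn
        exact Finset.mem_compl.1 hp (hall p hn)) with h | h
      · refine Or.inr (Or.inl ?_)
        rw [negOne_eq]
        exact mono_congr rfl (compl_inj_iff.1 (h.trans (Finset.compl_univ).symm))
      · refine Or.inr (Or.inr (Or.inr ?_))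
        rw [sgn_eq (toSet_mem_code q1)]
        refine mono_congr rfl ?_
        rw [← word_facts.2.2.2, toSet_xor, show 2 ^ 24 - 1 = SporStruct.OutCo1.allMask from rfl,
          SporStruct.OutCo1.toSet_allMask]
        refine compl_inj_iff.1 (h.trans ?_)
        ext p
        simp [Finset.mem_symmDiff]
    · push Not at hall
      obtain ⟨q, hq, hqd⟩ := hall
      rcases inside d hd (fun p hp => by
        by_contra hn
        exact hqd (hout p q hn hq hp)) with h | h
      · exact Or.inl ((mono_congr rfl h).trans mono_one_one)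
      · refine Or.inr (Or.inr (Or.inl ?_))
        rw [sgn_eq (toSet_mem_code o1)]
        exact mono_congr rfl h

open Cfsg.Agent.Leech.Co1Cent (C0 epsO rep8 el negC maskN tabN imgMask ocMask sigT) in
/-- The normal two-subgroup of the octad centraliser with a single nontrivial square. -/
theorem kernel_fact : ∃ M : Subgroup Co0,
    (∀ x ∈ M, x * sgn oN = sgn oN * x) ∧ IsPGroup 2 M ∧
    (∀ x, x * sgn oN = sgn oN * x → ∀ y ∈ M, x * y * x⁻¹ ∈ M) ∧
    (∀ y ∈ M, y * y = 1 ∨ y * y = sgn ocN) ∧ (∃ y ∈ M, y * y = sgn ocN) ∧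
    ∀ N : Subgroup Co0, IsPGroup 2 N → (∀ x ∈ N, x * sgn oN = sgn oN * x) →
      (∀ x, x * sgn oN = sgn oN * x → ∀ y ∈ N, x * y * x⁻¹ ∈ N) → N ≤ M := by
  obtain ⟨⟨o1, -⟩, ⟨q1, -⟩, -, -⟩ := word_facts
  haveI := finite_co0
  have he : epsO = sgn oN := by
    rw [sgn_eq (toSet_mem_code o1)]
    rfl
  have hoc : ocMask = ocN := by decide +kernel
  have hC : ∀ x : Co0, x ∈ C0 ↔ x * sgn oN = sgn oN * x := fun x => by rw [← he]; exact Co1Cent.mem_C0
  have hsq : ∀ i j, (el i j * el i j).1 = 1 ∨ (el i j * el i j).1 = sgn ocN := by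
    intro i j
    obtain ⟨h, e, -⟩ := Co1Cent.el_mul i i j j
    rw [e]
    rcases Co1Cent.act_facts.1 i j with z | z
    · left
      rw [← mono_one_one]
      exact mono_congr (Co1Cent.sigT_sq i) (by rw [z]; simp [Finset.ext_iff])
    · right
      rw [sgn_eq (toSet_mem_code q1)]
      exact mono_congr (Co1Cent.sigT_sq i) (by rw [z, hoc])
  have hsqM : ∀ y ∈ rep8.ker.map C0.subtype, y * y = 1 ∨ y * y = sgn ocN := by
    rintro _ ⟨g, hg, rfl⟩
    obtain ⟨i, j, rfl | rfl⟩ := Co1Cent.mem_ker_iff hg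
    · exact hsq i j
    · show negOne * (el i j).1 * (negOne * (el i j).1) = 1 ∨
        negOne * (el i j).1 * (negOne * (el i j).1) = _
      rw [show negOne * (el i j).1 * (negOne * (el i j).1) =
          negOne * ((el i j).1 * negOne) * (el i j).1 by group, negOne_comm, ← mul_assoc negOne,
        negOne_sq, one_mul]
      exact hsq i j
  refine ⟨rep8.ker.map C0.subtype, ?_, ?_, ?_, hsqM, ?_, ?_⟩
  · rintro _ ⟨g, -, rfl⟩
    exact (hC _).1 g.2
  · rintro ⟨y, hy⟩
    refine ⟨2, Subtype.ext ?_⟩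
    show y ^ 2 ^ 2 = 1
    rw [show 2 ^ 2 = 2 + 2 by norm_num, pow_add, pow_two]
    rcases hsqM y hy with h | h <;> rw [h]
    · rw [one_mul]
    · rw [sgn_eq (toSet_mem_code q1), mono_one_sq]
  · rintro x hx _ ⟨g, hg, rfl⟩
    let x' : ↥C0 := ⟨x, (hC x).2 hx⟩
    have h' : x' * g * x'⁻¹ ∈ rep8.ker :=
      (MonoidHom.normal_ker rep8).conj_mem g (SetLike.mem_coe.1 hg) x'
    refine Subgroup.mem_map.2 ⟨x' * g * x'⁻¹, h', ?_⟩
    rw [map_mul, map_mul, map_inv]
    simp only [Subgroup.coe_subtype, x']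
  · obtain ⟨i, j, z⟩ := (show ∃ i j, maskN j ^^^ imgMask (tabN i) (maskN j) = ocMask by
      decide +kernel)
    refine ⟨(el i j).1, ⟨el i j, Co1Cent.el_mem i j, rfl⟩, ?_⟩
    obtain ⟨h, e, -⟩ := Co1Cent.el_mul i i j j
    rw [show (el i j).1 * (el i j).1 = (el i j * el i j).1 from rfl, e, sgn_eq (toSet_mem_code q1)]
    exact mono_congr (Co1Cent.sigT_sq i) (by rw [z, hoc])
  · intro N hN hNC hNn x hx
    set N0 : Subgroup C0 := N.subgroupOf C0 with hN0
    haveI hnorm : N0.Normal := ⟨fun n hn g => by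
      rw [hN0, Subgroup.mem_subgroupOf] at hn ⊢
      exact hNn g.1 ((hC _).1 g.2) n.1 hn⟩
    have hp0 : IsPGroup 2 N0 := hN.comap_subtype
    let ψ : C0 →* rep8.range := rep8.rangeRestrict
    have hmap : IsPGroup 2 (N0.map ψ) := hp0.map ψ
    have hnm : (N0.map ψ).Normal := hnorm.map ψ rep8.rangeRestrict_surjective
    have himg : rep8.range = commutator Co1Cent.O8 := Co1Cent.img_eq
    haveI : IsSimpleGroup rep8.range := by
      haveI := Co1Cent.simple_commutator
      exact MulEquiv.isSimpleGroup (MulEquiv.subgroupCongr himg)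
    have hbot : N0.map ψ = ⊥ := by
      rcases IsSimpleGroup.eq_bot_or_eq_top_of_normal _ hnm with h | h
      · exact h
      · exfalso
        haveI : Finite C0 := inferInstance
        haveI : Finite rep8.range := Finite.of_surjective ψ rep8.rangeRestrict_surjective
        haveI : Fact (Nat.Prime 2) := ⟨Nat.prime_two⟩
        rw [h] at hmap
        have hnil : Group.IsNilpotent rep8.range := Group.isNilpotent_top.1 hmap.isNilpotent
        have : Group.IsSolvable rep8.range := inferInstance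
        exact Co1Cent.not_solvable_commutator (himg ▸ this)
    refine ⟨⟨x, (hC x).2 (hNC x hx)⟩, ?_, rfl⟩
    have : ψ ⟨x, (hC x).2 (hNC x hx)⟩ ∈ N0.map ψ := ⟨_, Subgroup.mem_subgroupOf.2 hx, rfl⟩
    rw [hbot, Subgroup.mem_bot] at this
    exact MonoidHom.mem_ker.2 (congrArg Subtype.val this)

/-- A homomorphism of a perfect group into an abelian one is trivial. -/
theorem hom_trivial {G A : Type*} [Group G] [CommGroup A] (hG : Group.IsPerfect G) (f : G →* A)
    (x : G) : f x = 1 :=
  Schur.monoidHom_eq_one_of_perfect hG f x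

/-- Every automorphism is inner. -/
theorem aut_fact (hperf : Group.IsPerfect Co0) (φ : MulAut Co0) :
    ∃ c : Co0, ∀ x, φ x = c * x * c⁻¹ := by
  have hsub : Subsingleton (Out Spor.Co1) := (Nat.card_eq_one_iff_unique.1 (SporStruct.OutCo1.card_out)).1
  set Z := Subgroup.center Co0
  have hZ : Z.map (φ : Co0 →* Co0) = Z := Subgroup.characteristic_iff_map_eq.1 inferInstance φ
  set φ1 : MulAut Spor.Co1 := QuotientGroup.congr Z Z φ hZ with hφ1
  have h1 : φ1 ∈ Inn Spor.Co1 := (QuotientGroup.eq_one_iff φ1).1 (Subsingleton.elim _ _)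
  obtain ⟨y, hy⟩ := h1
  obtain ⟨c, rfl⟩ := QuotientGroup.mk'_surjective Z y
  have hdiff : ∀ x, (c * x * c⁻¹)⁻¹ * φ x ∈ Z := fun x => by
    rw [← QuotientGroup.eq]
    have h := DFunLike.congr_fun hy (QuotientGroup.mk' Z x)
    exact h
  let θ : Co0 →* Z := MonoidHom.mk' (fun x => ⟨(c * x * c⁻¹)⁻¹ * φ x, hdiff x⟩) fun x y => by
    refine Subtype.ext ?_
    show (c * (x * y) * c⁻¹)⁻¹ * φ (x * y) = (c * x * c⁻¹)⁻¹ * φ x * ((c * y * c⁻¹)⁻¹ * φ y)
    have hx := Subgroup.mem_center_iff.1 (hdiff x) (c * y * c⁻¹)⁻¹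
    rw [map_mul, show (c * (x * y) * c⁻¹)⁻¹ = (c * y * c⁻¹)⁻¹ * (c * x * c⁻¹)⁻¹ by group]
    calc (c * y * c⁻¹)⁻¹ * (c * x * c⁻¹)⁻¹ * (φ x * φ y)
        = (c * y * c⁻¹)⁻¹ * ((c * x * c⁻¹)⁻¹ * φ x) * φ y := by group
      _ = (c * x * c⁻¹)⁻¹ * φ x * (c * y * c⁻¹)⁻¹ * φ y := by rw [hx]
      _ = _ := by group
  let _ : CommGroup Z := { mul_comm := fun a b => Subtype.ext (Subgroup.mem_center_iff.1 b.2 a.1) }
  refine ⟨c, fun x => ?_⟩
  have := congrArg Subtype.val (hom_trivial hperf θ x)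
  exact (inv_mul_eq_one.1 this).symm

end Cfsg.Agent.Co0Standard47
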