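import Cfsg.Agent.InvChar.ZStarApps
import Cfsg.Agent.S0215

/-!
A standard subgroup with the two-local properties of Co0 and a cyclic two-part in its centraliser:
the central involution is isolated.
-/

set_option autoImplicit false

namespace Cfsg.Agent.Co0Standard47

open Subgroup

/-- The properties used: `e` is the central involution, `o`, `oc`, `d` represent the others. -/
structure Props (A : Type*) [Group A] (e o oc d : A) : Prop where
  e_sq : e * e = 1
  e_ne : e ≠ 1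
  e_comm : ∀ x, x * e = e * x
  center : ∀ x : A, (∀ y, y * x = x * y) → x = 1 ∨ x = e
  inner : ∀ φ : MulAut A, ∃ c, ∀ x, φ x = c * x * c⁻¹
  types : ∀ x : A, x * x = 1 → x = 1 ∨ x = e ∨ IsConj x o ∨ IsConj x oc ∨ IsConj x d
  o_sq : o * o = 1
  d_sq : d * d = 1
  o_ne : o ≠ 1 ∧ o ≠ e
  d_ne : d ≠ 1 ∧ d ≠ e
  o_e : o * e = oc
  d_e : IsConj (d * e) d
  w100 : ∃ v, v * o = o * v ∧ IsConj v o ∧ IsConj (v * o) o
  w010 : ∃ v, v * oc = oc * v ∧ IsConj v oc ∧ IsConj (v * oc) oc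
  w110 : ∃ v, v * o = o * v ∧ IsConj v o ∧ IsConj (v * o) d
  w001 : ∃ v, v * d = d * v ∧ IsConj v o ∧ IsConj (v * d) d
  w101 : ∃ v, v * o = o * v ∧ IsConj v oc ∧ IsConj (v * o) oc
  w011 : ∃ v, v * d = d * v ∧ IsConj v o ∧ IsConj (v * d) o
  root : ∀ a : A, a ≠ 1 → a ≠ e → (a * a = 1 ∨ a * a = e) →
    ∃ P : Subgroup A, IsPGroup 2 P ∧ (∀ p ∈ P, p * a = a * p) ∧
      ∀ b : A, (∀ p ∈ P, b * p = p * b) → b * b ≠ a ∧ b * b ≠ a * e
  sylow : ∃ S : Sylow 2 A, (∀ p ∈ S, p * o = o * p) ∧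
    ∀ b : A, (∀ p ∈ S, b * p = p * b) → b = 1 ∨ b = e ∨ b = o ∨ b = oc
  kernel : ∃ M : Subgroup A, (∀ x ∈ M, x * o = o * x) ∧ IsPGroup 2 M ∧
    (∀ x, x * o = o * x → ∀ y ∈ M, x * y * x⁻¹ ∈ M) ∧ (∀ y ∈ M, y * y = 1 ∨ y * y = oc) ∧
    (∃ y ∈ M, y * y = oc) ∧
    ∀ N : Subgroup A, IsPGroup 2 N → (∀ x ∈ N, x * o = o * x) →
      (∀ x, x * o = o * x → ∀ y ∈ N, x * y * x⁻¹ ∈ N) → N ≤ M

theorem mul_eq_one_comm' {G : Type*} [Group G] {a b : G} (ha : a * a = 1) (hb : b * b = 1)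
    (h : a * b = b * a) : a * b * (a * b) = 1 := by
  calc a * b * (a * b) = a * (b * a) * b := by group
    _ = a * (a * b) * b := by rw [h]
    _ = a * a * (b * b) := by group
    _ = 1 := by rw [ha, hb, one_mul]

universe u v

variable {G : Type u} [Group G] [Finite G] {A : Type v} [Group A] {e o oc d : A}
variable {ι : A →* G}

/-- The setting. -/
structure Setting (ι : A →* G) (e o oc d : A) : Prop where
  props : Props A e o oc d
  inj : Function.Injective ι
  std : Cfsg.IsStandardSubgroup ι.range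
  cyc : ∀ R : Sylow 2 ↥(centralizer (ι.range : Set G)),
    IsCyclic ↥(R : Subgroup ↥(centralizer (ι.range : Set G)))

namespace Setting

variable (hS : Setting ι e o oc d)
include hS

omit [Finite G] in
theorem z_ne : ι e ≠ 1 := fun h => hS.props.e_ne (hS.inj (h.trans (map_one ι).symm))

omit [Finite G] in
theorem z_sq : ι e * ι e = 1 := by rw [← map_mul, hS.props.e_sq, map_one]

omit [Finite G] in
theorem z_mem : ι e ∈ centralizer (ι.range : Set G) := by
  rintro _ ⟨x, rfl⟩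
  rw [← map_mul, ← map_mul, hS.props.e_comm]

omit [Finite G] in
theorem mem_range_inf {a : A} (h : ι a ∈ centralizer (ι.range : Set G)) : a = 1 ∨ a = e := by
  refine hS.props.center a fun y => hS.inj ?_
  rw [map_mul, map_mul]
  exact h _ ⟨y, rfl⟩

theorem involution_eq {v : G} (hv : v ∈ centralizer (ι.range : Set G)) (h2 : v * v = 1) :
    v = 1 ∨ v = ι e := by
  by_cases h1 : v = 1
  · exact Or.inl h1
  · exact Or.inr (InvChar.involution_eq_of_rank_one (InvChar.prankLE_one_of_cyclic_sylow hS.cyc) hv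
      hS.z_mem h2 h1 hS.z_sq hS.z_ne (hv _ ⟨e, rfl⟩).symm)

/-- The centraliser of the central involution is the product. -/
theorem decompose {x : G} (hx : x * ι e = ι e * x) :
    ∃ a : A, ∃ c ∈ centralizer (ι.range : Set G), x = ι a * c := by
  have ho : orderOf (ι e) = 2 := orderOf_eq_prime (by rw [pow_two]; exact hS.z_sq) hS.z_ne
  have hN : x ∈ normalizer (ι.range : Set G) :=
    InvChar.centralizer_involution_le hS.std ho hS.z_mem fun z hz => by
      rw [Set.mem_singleton_iff.1 hz]; exact hx.symm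
  let ε : A ≃* ↥ι.range := MonoidHom.ofInjective hS.inj
  let φ : MulAut A := ε.trans ((ι.range.normalizerMonoidHom ⟨x, hN⟩).trans ε.symm)
  have hφ : ∀ y, ι (φ y) = x * ι y * x⁻¹ := fun y => by
    have h := ε.apply_symm_apply (ι.range.normalizerMonoidHom ⟨x, hN⟩ (ε y))
    exact congrArg Subtype.val h
  obtain ⟨a, ha⟩ := hS.props.inner φ
  refine ⟨a, (ι a)⁻¹ * x, ?_, by rw [mul_inv_cancel_left]⟩
  rintro _ ⟨y, rfl⟩
  have h := hφ y
  rw [ha, map_mul, map_mul, map_inv] at h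
  calc ι y * ((ι a)⁻¹ * x) = (ι a)⁻¹ * (ι a * ι y * (ι a)⁻¹) * x := by group
    _ = (ι a)⁻¹ * (x * ι y * x⁻¹) * x := by rw [h]
    _ = _ := by group

omit [Finite G] hS in
theorem comm_range {a : A} {c : G} (hc : c ∈ centralizer (ι.range : Set G)) : Commute (ι a) c :=
  hc _ ⟨a, rfl⟩

omit [Finite G] in
/-- A product with trivial power. -/
theorem pow_eq_one_parts {a : A} {c : G} (hc : c ∈ centralizer (ι.range : Set G)) {n : ℕ}
    (h : (ι a * c) ^ n = 1) : c ^ n = 1 ∨ c ^ n = ι e := by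
  rw [(comm_range hc).mul_pow] at h
  have e1 : c ^ n = ι (a ^ n)⁻¹ := by
    rw [map_inv, map_pow]; exact (eq_inv_of_mul_eq_one_right h)
  rcases hS.mem_range_inf (a := (a ^ n)⁻¹) (e1 ▸ pow_mem hc n) with h' | h' <;> rw [h'] at e1
  · exact Or.inl (e1.trans (map_one ι))
  · exact Or.inr e1

/-- Without an element of order four, the two-elements of the centraliser of the involution lie in
the subgroup. -/
theorem two_mem_range (hno : ¬ ∃ r ∈ centralizer (ι.range : Set G), r * r = ι e) {y : G}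
    (hy : y * ι e = ι e * y) {n : ℕ} (hn : y ^ 2 ^ n = 1) : ∃ b, y = ι b := by
  have descent : ∀ (m : ℕ), ∀ c ∈ centralizer (ι.range : Set G), c ^ 2 ^ m = 1 →
      c = 1 ∨ c = ι e := by
    intro m
    induction m with
    | zero => intro c _ h; rw [pow_zero, pow_one] at h; exact Or.inl h
    | succ m ih =>
      intro c hc h
      rw [pow_succ', pow_mul] at h
      rcases ih (c ^ 2) (pow_mem hc 2) h with h' | h'
      · exact hS.involution_eq hc (by rw [← pow_two, h'])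
      · exact absurd ⟨c, hc, by rw [← pow_two, h']⟩ hno
  obtain ⟨a, c, hc, rfl⟩ := hS.decompose hy
  have hc' : c ^ 2 ^ (n + 1) = 1 := by
    rw [pow_succ, pow_mul]
    rcases hS.pow_eq_one_parts hc hn with h | h <;> rw [h]
    · exact one_pow 2
    · rw [pow_two]; exact hS.z_sq
  rcases descent _ c hc hc' with rfl | rfl
  · exact ⟨a, mul_one _⟩
  · exact ⟨a * e, (map_mul ι a e).symm⟩

/-- A square root of the involution commuting with a given two-group. -/
theorem exists_root (hr : ∃ r ∈ centralizer (ι.range : Set G), r * r = ι e) {T : Subgroup G}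
    (hT : IsPGroup 2 T) (hTz : ∀ t ∈ T, t * ι e = ι e * t) :
    ∃ r ∈ centralizer (ι.range : Set G), r * r = ι e ∧ ∀ t ∈ T, r * t = t * r := by
  classical
  haveI : Fact (Nat.Prime 2) := ⟨Nat.prime_two⟩
  set C := centralizer (ι.range : Set G) with hC
  let Cp : Subgroup ↥C :=
    { carrier := {c | ∃ a : A, ι a * (c : G) ∈ T}
      one_mem' := ⟨1, by rw [map_one, one_mul, OneMemClass.coe_one]; exact T.one_mem⟩
      mul_mem' := by
        rintro c c' ⟨a, ha⟩ ⟨a', ha'⟩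
        refine ⟨a * a', ?_⟩
        have h := T.mul_mem ha ha'
        rwa [show ι a * (c : G) * (ι a' * c') = ι (a * a') * ((c * c' : ↥C) : G) by
          rw [map_mul, Subgroup.coe_mul, mul_assoc, ← mul_assoc (c : G), ← (comm_range c.2).eq]
          group] at h
      inv_mem' := by
        rintro c ⟨a, ha⟩
        refine ⟨a⁻¹, ?_⟩
        have h := T.inv_mem ha
        rwa [show (ι a * (c : G))⁻¹ = ι a⁻¹ * ((c⁻¹ : ↥C) : G) by
          rw [(comm_range c.2).eq, mul_inv_rev, map_inv, Subgroup.coe_inv]] at h }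
  have hp : IsPGroup 2 Cp := by
    rintro ⟨c, a, ha⟩
    obtain ⟨k, hk⟩ := hT ⟨_, ha⟩
    refine ⟨k + 1, Subtype.ext (Subtype.ext ?_)⟩
    show (c : G) ^ 2 ^ (k + 1) = 1
    rw [pow_succ, pow_mul]
    rcases hS.pow_eq_one_parts c.2 (show (ι a * (c : G)) ^ 2 ^ k = 1 from congrArg Subtype.val hk)
      with h | h <;> rw [h]
    · exact one_pow 2
    · rw [pow_two]; exact hS.z_sq
  obtain ⟨R, hR⟩ := hp.exists_le_sylow
  obtain ⟨r, hrC, hr2⟩ := hr
  have hr4 : (⟨r, hrC⟩ : ↥C) ^ 2 ^ 2 = 1 := by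
    refine Subtype.ext ?_
    show r ^ 2 ^ 2 = 1
    rw [show 2 ^ 2 = 2 + 2 by norm_num, pow_add, pow_two, hr2, hS.z_sq]
  have hrp : IsPGroup 2 (zpowers (⟨r, hrC⟩ : ↥C)) := by
    rintro ⟨y, hy⟩
    obtain ⟨n, rfl⟩ := mem_zpowers_iff.1 hy
    refine ⟨2, Subtype.ext ?_⟩
    show ((⟨r, hrC⟩ : ↥C) ^ n) ^ 2 ^ 2 = 1
    rw [← zpow_natCast, ← zpow_mul, mul_comm, zpow_mul, zpow_natCast, hr4, one_zpow]
  obtain ⟨R', hR'⟩ := hrp.exists_le_sylow
  obtain ⟨g, hg⟩ := MulAction.exists_smul_eq ↥C R' R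
  have hr' : g * ⟨r, hrC⟩ * g⁻¹ ∈ (R : Subgroup ↥C) := by
    have h1 : g * ⟨r, hrC⟩ * g⁻¹ ∈ ((g • R' : Sylow 2 ↥C) : Subgroup ↥C) :=
      ⟨_, hR' (mem_zpowers _), rfl⟩
    rwa [hg] at h1
  set r' : ↥C := g * ⟨r, hrC⟩ * g⁻¹ with hr'def
  refine ⟨r', r'.2, ?_, ?_⟩
  · show ((g : G) * r * (g : G)⁻¹) * ((g : G) * r * (g : G)⁻¹) = _
    rw [show (g : G) * r * (g : G)⁻¹ * ((g : G) * r * (g : G)⁻¹) = g * (r * r) * (g : G)⁻¹ by group,
      hr2, ← (comm_range g.2).eq, mul_inv_cancel_right]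
  · intro t ht
    obtain ⟨a, c, hc, rfl⟩ := hS.decompose (hTz t ht)
    have hcR : (⟨c, hc⟩ : ↥C) ∈ (R : Subgroup ↥C) := hR ⟨a, ht⟩
    haveI := hS.cyc R
    let _ : CommGroup ↥(R : Subgroup ↥C) := IsCyclic.commGroup
    have hcomm : (r' : G) * c = c * r' :=
      congrArg (fun x : ↥(R : Subgroup ↥C) => ((x : ↥C) : G)) (mul_comm (⟨r', hr'⟩ : ↥(R : Subgroup ↥C)) ⟨_, hcR⟩)
    calc (r' : G) * (ι a * c) = (r' : G) * ι a * c := by group
      _ = ι a * r' * c := by rw [← (comm_range r'.2).eq]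
      _ = ι a * (r' * c) := by group
      _ = ι a * (c * r') := by rw [hcomm]
      _ = _ := by group

/-- With an element of order four in the centraliser. -/
theorem isolated_of_root (hr : ∃ r ∈ centralizer (ι.range : Set G), r * r = ι e) {g : G}
    (hu : g * ι e * g⁻¹ * ι e = ι e * (g * ι e * g⁻¹)) : g * ι e * g⁻¹ = ι e := by
  obtain ⟨a, c, hc, hac⟩ := hS.decompose hu
  set u := g * ι e * g⁻¹ with hudef
  by_contra hne
  have hu2 : u * u = 1 := by
    rw [hudef, show g * ι e * g⁻¹ * (g * ι e * g⁻¹) = g * (ι e * ι e) * g⁻¹ by group, hS.z_sq]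
    group
  have haa : a * a = 1 ∨ a * a = e := by
    refine hS.mem_range_inf ?_
    have h : ι (a * a) = (c * c)⁻¹ := by
      refine eq_inv_of_mul_eq_one_left ?_
      rw [map_mul]
      calc ι a * ι a * (c * c) = ι a * (ι a * c) * c := by group
        _ = ι a * (c * ι a) * c := by rw [(comm_range hc).eq]
        _ = u * u := by rw [hac]; group
        _ = 1 := hu2
    rw [h]
    exact inv_mem (mul_mem hc hc)
  have hin : a ≠ 1 ∧ a ≠ e := by
    have key : ι a ∈ centralizer (ι.range : Set G) → False := fun h => by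
      rcases hS.involution_eq (hac ▸ mul_mem h hc) hu2 with h' | h'
      · refine hS.z_ne ?_
        rw [show ι e = g⁻¹ * u * g by rw [hudef]; group, h']
        group
      · exact hne h'
    exact ⟨fun h => key (by rw [h, map_one]; exact one_mem _), fun h => key (h ▸ hS.z_mem)⟩
  obtain ⟨P, hP, hPa, hPb⟩ := hS.props.root a hin.1 hin.2 haa
  have hzp : IsPGroup 2 (zpowers e) := by
    rintro ⟨y, hy⟩
    obtain ⟨n, rfl⟩ := mem_zpowers_iff.1 hy
    refine ⟨1, Subtype.ext ?_⟩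
    show (e ^ n) ^ 2 ^ 1 = 1
    rw [← zpow_natCast, ← zpow_mul, mul_comm, zpow_mul, zpow_natCast, pow_one, pow_two,
      hS.props.e_sq, one_zpow]
  haveI : (zpowers e).Normal := ⟨fun n hn x => by
    obtain ⟨k, rfl⟩ := mem_zpowers_iff.1 hn
    rw [((show Commute x e from hS.props.e_comm x).zpow_right k).eq, mul_inv_cancel_right]
    exact zpow_mem (mem_zpowers e) k⟩
  set K := P ⊔ zpowers e with hK
  have hKp : IsPGroup 2 K := hP.to_sup_of_normal_right hzp
  have hKa : ∀ k ∈ K, k * a = a * k := by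
    intro k hk
    have hle : K ≤ centralizer ({a} : Set A) := sup_le
      (fun p hp => mem_centralizer_singleton_iff.2 (hPa p hp))
      (by rw [zpowers_le, mem_centralizer_singleton_iff, hS.props.e_comm a])
    exact mem_centralizer_singleton_iff.1 (hle hk)
  set T : Subgroup G := (K.map ι).map (MulAut.conj g⁻¹).toMonoidHom with hTdef
  have hTp : IsPGroup 2 T := (hKp.map ι).map _
  have hku : ∀ k ∈ K, ι k * u = u * ι k := by
    intro k hk
    rw [hac, ← mul_assoc, ← map_mul, hKa k hk, map_mul, mul_assoc, (comm_range hc).eq, ← mul_assoc]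
  have hTz : ∀ t ∈ T, t * ι e = ι e * t := by
    rintro _ ⟨_, ⟨k, hk, rfl⟩, rfl⟩
    show g⁻¹ * ι k * g⁻¹⁻¹ * ι e = ι e * (g⁻¹ * ι k * g⁻¹⁻¹)
    calc g⁻¹ * ι k * g⁻¹⁻¹ * ι e = g⁻¹ * (ι k * u) * g := by rw [hudef]; group
      _ = g⁻¹ * (u * ι k) * g := by rw [hku k hk]
      _ = _ := by rw [hudef]; group
  obtain ⟨r0, hr0, hr02, hr0T⟩ := hS.exists_root hr hTp hTz
  set r := g * r0 * g⁻¹ with hrdef
  have hru : r * r = u := by
    rw [hrdef, hudef, ← hr02]; group
  have hrk : ∀ k ∈ K, r * ι k = ι k * r := by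
    intro k hk
    have h := hr0T _ ⟨_, ⟨k, hk, rfl⟩, rfl⟩
    change r0 * (g⁻¹ * ι k * g⁻¹⁻¹) = g⁻¹ * ι k * g⁻¹⁻¹ * r0 at h
    calc r * ι k = g * (r0 * (g⁻¹ * ι k * g⁻¹⁻¹)) * g⁻¹ := by rw [hrdef]; group
      _ = g * (g⁻¹ * ι k * g⁻¹⁻¹ * r0) * g⁻¹ := by rw [h]
      _ = _ := by rw [hrdef]; group
  obtain ⟨b, c', hc', hbc⟩ := hS.decompose (hrk e (mem_sup_right (mem_zpowers e)))
  have hbP : ∀ p ∈ P, b * p = p * b := by
    intro p hp
    refine hS.inj (mul_right_cancel (b := c') ?_)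
    have h := hrk p (mem_sup_left hp)
    rw [hbc] at h
    calc ι (b * p) * c' = ι b * (ι p * c') := by rw [map_mul]; group
      _ = ι b * (c' * ι p) := by rw [(comm_range hc').eq]
      _ = ι b * c' * ι p := by group
      _ = ι p * (ι b * c') := h
      _ = _ := by rw [map_mul]; group
  obtain ⟨n1, n2⟩ := hPb b hbP
  have heq : ι (a⁻¹ * (b * b)) = c * (c' * c')⁻¹ := by
    have h : ι b * ι b * (c' * c') = ι a * c := by
      rw [← hac, ← hru, hbc]
      calc ι b * ι b * (c' * c') = ι b * (ι b * c') * c' := by group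
        _ = ι b * (c' * ι b) * c' := by rw [(comm_range hc').eq]
        _ = _ := by group
    rw [map_mul, map_inv, map_mul, show ι b * ι b = ι a * c * (c' * c')⁻¹ by rw [← h]; group]
    group
  rcases hS.mem_range_inf (heq ▸ mul_mem hc (inv_mem (mul_mem hc' hc'))) with h | h
  · exact n1 (inv_mul_eq_one.1 h).symm
  · exact n2 (by rw [← h]; group)

omit hS in
/-- Conjugate in `G` to the central involution. -/
def InX (ι : A →* G) (e x : A) : Prop := IsConj (ι e) (ι x)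

omit [Finite G] hS in
theorem inX_congr {x y : A} (h : IsConj x y) : InX ι e x ↔ InX ι e y := by
  have h' : IsConj (ι x) (ι y) := ι.map_isConj h
  exact ⟨fun hx => IsConj.trans hx h', fun hy => IsConj.trans hy h'.symm⟩

/-- A pair of commuting involutions seen from the conjugate involution. -/
theorem pair (hno : ¬ ∃ r ∈ centralizer (ι.range : Set G), r * r = ι e) {u v : A}
    (hu : InX ι e u) (hv2 : v * v = 1) (hcomm : v * u = u * v) (hv1 : v ≠ 1) (hvu : v ≠ u) :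
    (InX ι e v ↔ InX ι e o) ∧ (InX ι e (v * u) ↔ InX ι e oc) ∨
    (InX ι e v ↔ InX ι e oc) ∧ (InX ι e (v * u) ↔ InX ι e o) ∨
    (InX ι e v ↔ InX ι e d) ∧ (InX ι e (v * u) ↔ InX ι e d) := by
  obtain ⟨g, hg⟩ := isConj_iff.1 hu
  set y := g⁻¹ * ι v * g with hy
  have hyz : y * ι e = ι e * y := by
    have h : ι v * ι u = ι u * ι v := by rw [← map_mul, hcomm, map_mul]
    rw [← hg] at h
    calc y * ι e = g⁻¹ * (ι v * (g * ι e * g⁻¹)) * g := by rw [hy]; group
      _ = g⁻¹ * (g * ι e * g⁻¹ * ι v) * g := by rw [h]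
      _ = _ := by rw [hy]; group
  have hy2 : y ^ 2 ^ 1 = 1 := by
    rw [pow_one, pow_two, hy, show g⁻¹ * ι v * g * (g⁻¹ * ι v * g) = g⁻¹ * (ι v * ι v) * g by group,
      ← map_mul, hv2, map_one]
    group
  obtain ⟨w, hw⟩ := hS.two_mem_range hno hyz hy2
  have hwv : IsConj (ι v) (ι w) := isConj_iff.2 ⟨g⁻¹, by rw [← hw, hy, inv_inv]⟩
  have hwe : IsConj (ι (v * u)) (ι (w * e)) := isConj_iff.2 ⟨g⁻¹, by
    rw [map_mul, map_mul, ← hw, ← hg, hy]; group⟩
  have hw2 : w * w = 1 := hS.inj (by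
    rw [map_mul, map_one, ← hw, ← pow_two, ← pow_one 2]; exact hy2)
  have hv_iff : InX ι e v ↔ InX ι e w :=
    ⟨fun h => IsConj.trans h hwv, fun h => IsConj.trans h hwv.symm⟩
  have hvu_iff : InX ι e (v * u) ↔ InX ι e (w * e) :=
    ⟨fun h => IsConj.trans h hwe, fun h => IsConj.trans h hwe.symm⟩
  rw [hv_iff, hvu_iff]
  have hmul : ∀ {t : A}, IsConj w t → IsConj (w * e) (t * e) := by
    intro t ht
    obtain ⟨c, hc⟩ := isConj_iff.1 ht
    refine isConj_iff.2 ⟨c, ?_⟩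
    rw [← hc, show c * (w * e) * c⁻¹ = c * w * (e * c⁻¹) by group, ← hS.props.e_comm c⁻¹]
    group
  rcases hS.props.types w hw2 with rfl | rfl | h | h | h
  · refine absurd (hS.inj ?_) hv1
    rw [map_one] at hw ⊢
    rw [show ι v = g * y * g⁻¹ by rw [hy]; group, hw]
    group
  · refine absurd (hS.inj ?_) hvu
    rw [show ι v = g * y * g⁻¹ by rw [hy]; group, hw, hg]
  · exact Or.inl ⟨inX_congr h, inX_congr (hS.props.o_e ▸ hmul h)⟩
  · refine Or.inr (Or.inl ⟨inX_congr h, inX_congr ?_⟩)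
    have h' := hmul h
    rwa [show oc * e = o by rw [← hS.props.o_e, mul_assoc, hS.props.e_sq, mul_one]] at h'
  · exact Or.inr (Or.inr ⟨inX_congr h, inX_congr ((hmul h).trans hS.props.d_e)⟩)

omit [Finite G] in
theorem oc_sq : oc * oc = 1 := by
  rw [← hS.props.o_e]
  exact mul_eq_one_comm' hS.props.o_sq hS.props.e_sq (hS.props.e_comm o)

omit [Finite G] in
theorem oc_ne : oc ≠ 1 ∧ oc ≠ e := by
  rw [← hS.props.o_e]
  refine ⟨fun h => hS.props.o_ne.2 ?_, fun h => hS.props.o_ne.1 ?_⟩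
  · rw [← mul_inv_eq_iff_eq_mul.2 h.symm, one_mul, inv_eq_of_mul_eq_one_right hS.props.e_sq]
  · exact mul_eq_right.1 h

/-- All three classes fused to the central involution is impossible. -/
theorem not_all (hno : ¬ ∃ r ∈ centralizer (ι.range : Set G), r * r = ι e) (hoc : InX ι e oc) :
    False := by
  haveI : Finite A := Finite.of_injective ι hS.inj
  haveI : Fact (Nat.Prime 2) := ⟨Nat.prime_two⟩
  obtain ⟨S, hSo, hScent⟩ := hS.props.sylow
  obtain ⟨h0, hh0⟩ := isConj_iff.1 hoc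
  obtain ⟨h, hh⟩ : ∃ h, h = h0⁻¹ := ⟨_, rfl⟩
  have hhe : h * ι oc * h⁻¹ = ι e := by rw [← hh0, hh]; group
  have hSoc : ∀ p ∈ S, p * oc = oc * p := fun p hp => by
    rw [← hS.props.o_e, ← mul_assoc, hSo p hp, mul_assoc, hS.props.e_comm p, ← mul_assoc]
  set S' : Subgroup G := (((S : Subgroup A).map ι).map (MulAut.conj h).toMonoidHom) with hS'
  have hS'p : IsPGroup 2 S' := (S.isPGroup'.map ι).map _
  have hS'z : ∀ x ∈ S', x * ι e = ι e * x := by
    rintro _ ⟨_, ⟨p, hp, rfl⟩, rfl⟩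
    show h * ι p * h⁻¹ * ι e = ι e * (h * ι p * h⁻¹)
    rw [← hhe, show h * ι p * h⁻¹ * (h * ι oc * h⁻¹) = h * (ι p * ι oc) * h⁻¹ by group,
      ← map_mul, hSoc p hp, map_mul]
    group
  have hS'r : S' ≤ ι.range := fun x hx => by
    obtain ⟨k, hk⟩ := hS'p ⟨x, hx⟩
    obtain ⟨b, hb⟩ := hS.two_mem_range hno (hS'z x hx) (show x ^ 2 ^ k = 1 from congrArg Subtype.val hk)
    exact ⟨b, hb.symm⟩
  set S2 : Subgroup A := S'.comap ι with hS2
  have hcard : Nat.card S2 = Nat.card S := by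
    have e1 : S2.map ι = S' := by
      rw [hS2, map_comap_eq, inf_eq_right.2 hS'r]
    rw [← card_map_of_injective (f := ι) hS.inj, e1, hS', card_map_of_injective (MulAut.conj h).injective,
      card_map_of_injective hS.inj]
  let S2' : Sylow 2 A := Sylow.ofCard S2 (by rw [hcard]; exact S.card_eq_multiplicity)
  obtain ⟨a, ha⟩ := MulAction.exists_smul_eq A S2' S
  set g := ι a * h with hg
  have hgS : ∀ p ∈ S, ∃ q ∈ S, g * ι p * g⁻¹ = ι q := by
    intro p hp
    have h1 : h * ι p * h⁻¹ ∈ S' := ⟨_, ⟨p, hp, rfl⟩, rfl⟩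
    obtain ⟨b, hb⟩ := hS'r h1
    refine ⟨a * b * a⁻¹, ?_, ?_⟩
    · have h2 : a * b * a⁻¹ ∈ ((a • S2' : Sylow 2 A) : Subgroup A) :=
        ⟨b, show ι b ∈ S' from hb ▸ h1, rfl⟩
      rwa [ha] at h2
    · rw [map_mul, map_mul, map_inv, hb, hg]; group
  have hgoc : g * ι oc * g⁻¹ = ι e := by
    rw [hg, show ι a * h * ι oc * (ι a * h)⁻¹ = ι a * (h * ι oc * h⁻¹) * (ι a)⁻¹ by group, hhe,
      ← map_mul, hS.props.e_comm a, map_mul]
    group
  have hoo : o * oc = e := by rw [← hS.props.o_e, ← mul_assoc, hS.props.o_sq, one_mul]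
  -- the image of `o`
  have hgo1 : g * ι o * g⁻¹ * ι e = ι e * (g * ι o * g⁻¹) := by
    rw [← hgoc, show g * ι o * g⁻¹ * (g * ι oc * g⁻¹) = g * (ι o * ι oc) * g⁻¹ by group, ← map_mul,
      show o * oc = oc * o by rw [← hS.props.o_e, mul_assoc, ← hS.props.e_comm o], map_mul]
    group
  obtain ⟨b, hb⟩ := hS.two_mem_range hno hgo1 (n := 1) (by
    rw [pow_one, pow_two, show g * ι o * g⁻¹ * (g * ι o * g⁻¹) = g * (ι o * ι o) * g⁻¹ by group,
      ← map_mul, hS.props.o_sq, map_one]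
    group)
  -- the conjugation is onto on the Sylow subgroup
  let F : ↥(S : Subgroup A) → ↥(S : Subgroup A) := fun p =>
    ⟨(hgS p.1 p.2).choose, (hgS p.1 p.2).choose_spec.1⟩
  have hF : ∀ p : ↥(S : Subgroup A), g * ι p.1 * g⁻¹ = ι (F p).1 := fun p =>
    (hgS p.1 p.2).choose_spec.2
  have hFs : Function.Surjective F := Finite.injective_iff_surjective.1 fun p q hpq => by
    have := (hF p).trans ((congrArg (fun x : ↥(S : Subgroup A) => ι x.1) hpq).trans (hF q).symm)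
    exact Subtype.ext (hS.inj (mul_left_cancel (mul_right_cancel this)))
  have hbS : ∀ q ∈ S, b * q = q * b := by
    intro q hq
    obtain ⟨p, hp⟩ := hFs ⟨q, hq⟩
    refine hS.inj ?_
    rw [map_mul, map_mul, show ι q = g * ι p.1 * g⁻¹ by rw [hF, hp], ← hb,
      show g * ι o * g⁻¹ * (g * ι p.1 * g⁻¹) = g * (ι o * ι p.1) * g⁻¹ by group, ← map_mul,
      ← hSo p.1 p.2, map_mul]
    group
  have hbo : b = o ∨ b = oc := by
    rcases hScent b hbS with h' | h' | h' | h'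
    · exfalso
      refine hS.props.o_ne.1 (hS.inj ?_)
      rw [map_one, show ι o = g⁻¹ * (g * ι o * g⁻¹) * g by group, hb, h', map_one]
      group
    · exfalso
      refine hS.props.o_ne.2 (hS.inj ?_)
      have : ι o = ι oc := mul_left_cancel (mul_right_cancel
        (show g * ι o * g⁻¹ = g * ι oc * g⁻¹ by rw [hb, h', hgoc]))
      have h2 : o * o = o * oc := congrArg (o * ·) (hS.inj this)
      rw [hS.props.o_sq, hoo] at h2
      exact absurd h2.symm hS.props.e_ne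
    · exact Or.inl h'
    · exact Or.inr h'
  have hcomm_o : ∀ x, x * b = b * x → x * o = o * x := by
    intro x hx
    rcases hbo with h' | h'
    · rwa [h'] at hx
    · rw [h'] at hx
      have ho : o = oc * e := by rw [← hS.props.o_e, mul_assoc, hS.props.e_sq, mul_one]
      rw [ho, ← mul_assoc, hx, mul_assoc, hS.props.e_comm x, ← mul_assoc]
  obtain ⟨M, hMo, hMp, hMn, hMsq, ⟨y0, hy0, hy02⟩, hMax⟩ := hS.props.kernel
  have hMoc : ∀ y ∈ M, y * oc = oc * y := fun y hy => by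
    rw [← hS.props.o_e, ← mul_assoc, hMo y hy, mul_assoc, hS.props.e_comm y, ← mul_assoc]
  set N' : Subgroup G := (M.map ι).map (MulAut.conj g).toMonoidHom with hN'
  have hN'p : IsPGroup 2 N' := (hMp.map ι).map _
  have hN'mem : ∀ x ∈ N', x * ι e = ι e * x ∧ x * ι b = ι b * x := by
    rintro _ ⟨_, ⟨y, hy, rfl⟩, rfl⟩
    refine ⟨?_, ?_⟩
    · show g * ι y * g⁻¹ * ι e = ι e * (g * ι y * g⁻¹)
      rw [← hgoc, show g * ι y * g⁻¹ * (g * ι oc * g⁻¹) = g * (ι y * ι oc) * g⁻¹ by group,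
        ← map_mul, hMoc y hy, map_mul]
      group
    · show g * ι y * g⁻¹ * ι b = ι b * (g * ι y * g⁻¹)
      rw [← hb, show g * ι y * g⁻¹ * (g * ι o * g⁻¹) = g * (ι y * ι o) * g⁻¹ by group,
        ← map_mul, hMo y hy, map_mul]
      group
  set N : Subgroup A := N'.comap ι with hN
  have hNp : IsPGroup 2 N := hN'p.comap_of_injective ι hS.inj
  have hNo : ∀ x ∈ N, x * o = o * x := fun x hx => hcomm_o x (hS.inj (by
    rw [map_mul, map_mul]; exact (hN'mem _ hx).2))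
  have hNn : ∀ x, x * o = o * x → ∀ y ∈ N, x * y * x⁻¹ ∈ N := by
    intro x hx y hy
    obtain ⟨_, ⟨m, hm, rfl⟩, hmy⟩ := hy
    change g * ι m * g⁻¹ = ι y at hmy
    have hxb : x * b = b * x := by
      rcases hbo with h' | h' <;> rw [h']
      · exact hx
      · rw [← hS.props.o_e, ← mul_assoc, hx, mul_assoc, hS.props.e_comm x, ← mul_assoc]
    set x1 := g⁻¹ * ι x * g with hx1
    have hxo : x1 * ι o = ι o * x1 := by
      have h1 : ι x * ι b = ι b * ι x := by rw [← map_mul, hxb, map_mul]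
      rw [← hb] at h1
      calc x1 * ι o = g⁻¹ * (ι x * (g * ι o * g⁻¹)) * g := by rw [hx1]; group
        _ = g⁻¹ * (g * ι o * g⁻¹ * ι x) * g := by rw [h1]
        _ = _ := by rw [hx1]; group
    have hxoc : x1 * ι oc = ι oc * x1 := by
      have h1 : ι x * ι e = ι e * ι x := by rw [← map_mul, hS.props.e_comm x, map_mul]
      rw [← hgoc] at h1
      calc x1 * ι oc = g⁻¹ * (ι x * (g * ι oc * g⁻¹)) * g := by rw [hx1]; group
        _ = g⁻¹ * (g * ι oc * g⁻¹ * ι x) * g := by rw [h1]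
        _ = _ := by rw [hx1]; group
    have hxe : x1 * ι e = ι e * x1 := by
      rw [← hoo, map_mul, ← mul_assoc, hxo, mul_assoc, hxoc, ← mul_assoc]
    obtain ⟨a', c, hc, hac⟩ := hS.decompose hxe
    have ha' : a' * o = o * a' := by
      refine hS.inj (mul_right_cancel (b := c) ?_)
      rw [hac] at hxo
      calc ι (a' * o) * c = ι a' * (ι o * c) := by rw [map_mul]; group
        _ = ι a' * (c * ι o) := by rw [(comm_range hc).eq]
        _ = ι a' * c * ι o := by group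
        _ = ι o * (ι a' * c) := hxo
        _ = _ := by rw [map_mul]; group
    refine ⟨_, ⟨_, hMn a' ha' m hm, rfl⟩, ?_⟩
    show g * ι (a' * m * a'⁻¹) * g⁻¹ = ι (x * y * x⁻¹)
    have hcm : x1 * ι m * x1⁻¹ = ι (a' * m * a'⁻¹) := by
      rw [hac, map_mul, map_mul, map_inv]
      calc ι a' * c * ι m * (ι a' * c)⁻¹ = ι a' * (c * ι m) * c⁻¹ * (ι a')⁻¹ := by group
        _ = ι a' * (ι m * c) * c⁻¹ * (ι a')⁻¹ := by rw [(comm_range hc).eq]
        _ = _ := by group
    rw [← hcm, map_mul, map_mul, map_inv, ← hmy, hx1]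
    group
  have hNM := hMax N hNp hNo hNn
  obtain ⟨y', hy'⟩ : ∃ y', ι y' = g * ι y0 * g⁻¹ := by
    have hm : g * ι y0 * g⁻¹ ∈ N' := ⟨_, ⟨y0, hy0, rfl⟩, rfl⟩
    obtain ⟨k, hk⟩ := hN'p ⟨_, hm⟩
    obtain ⟨q, hq⟩ := hS.two_mem_range hno (hN'mem _ hm).1
      (show (g * ι y0 * g⁻¹) ^ 2 ^ k = 1 from congrArg Subtype.val hk)
    exact ⟨q, hq.symm⟩
  have hy'M : y' ∈ M := hNM (show ι y' ∈ N' from hy'.symm ▸ ⟨_, ⟨y0, hy0, rfl⟩, rfl⟩)
  have hy'2 : y' * y' = e := hS.inj (by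
    rw [map_mul, hy', show g * ι y0 * g⁻¹ * (g * ι y0 * g⁻¹) = g * (ι y0 * ι y0) * g⁻¹ by group,
      ← map_mul, hy02, hgoc])
  rcases hMsq y' hy'M with h' | h' <;> rw [hy'2] at h'
  · exact hS.props.e_ne h'
  · exact hS.oc_ne.2 h'.symm

/-- A witness pair. -/
theorem witness (hno : ¬ ∃ r ∈ centralizer (ι.range : Set G), r * r = ι e) {u v p q : A}
    (hu : InX ι e u) (hcomm : v * u = u * v) (hp : p ≠ 1) (hp2 : p * p = 1) (hq : q ≠ 1)
    (hu2 : u * u = 1) (hv : IsConj v p) (hvu : IsConj (v * u) q) :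
    (InX ι e p ↔ InX ι e o) ∧ (InX ι e q ↔ InX ι e oc) ∨
    (InX ι e p ↔ InX ι e oc) ∧ (InX ι e q ↔ InX ι e o) ∨
    (InX ι e p ↔ InX ι e d) ∧ (InX ι e q ↔ InX ι e d) := by
  obtain ⟨c, hc⟩ := isConj_iff.1 hv
  have hv2 : v * v = 1 := by
    have : v = c⁻¹ * p * c := by rw [← hc]; group
    rw [this, show c⁻¹ * p * c * (c⁻¹ * p * c) = c⁻¹ * (p * p) * c by group, hp2]
    group
  have hv1 : v ≠ 1 := fun h => hp (by rw [← hc, h]; group)
  have hvu1 : v ≠ u := fun h => hq (by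
    rw [h, hu2] at hvu
    exact (isConj_one_right.1 hvu))
  have h := hS.pair hno hu hv2 hcomm hv1 hvu1
  rwa [inX_congr hv, inX_congr hvu] at h

/-- Without an element of order four. -/
theorem isolated_of_no_root (hno : ¬ ∃ r ∈ centralizer (ι.range : Set G), r * r = ι e) {g : G}
    (hu : g * ι e * g⁻¹ * ι e = ι e * (g * ι e * g⁻¹)) : g * ι e * g⁻¹ = ι e := by
  by_contra hne
  obtain ⟨w, hw⟩ := hS.two_mem_range hno hu (n := 1) (by
    rw [pow_one, pow_two, show g * ι e * g⁻¹ * (g * ι e * g⁻¹) = g * (ι e * ι e) * g⁻¹ by group,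
      hS.z_sq]
    group)
  have hwX : InX ι e w := isConj_iff.2 ⟨g, hw⟩
  have hw2 : w * w = 1 := hS.inj (by
    rw [map_mul, map_one, ← hw, show g * ι e * g⁻¹ * (g * ι e * g⁻¹) = g * (ι e * ι e) * g⁻¹ by group,
      hS.z_sq]
    group)
  have hX : InX ι e o ∨ InX ι e oc ∨ InX ι e d := by
    rcases hS.props.types w hw2 with rfl | rfl | h | h | h
    · exfalso
      rw [map_one] at hw
      exact hS.z_ne (by rw [show ι e = g⁻¹ * (g * ι e * g⁻¹) * g by group, hw]; group)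
    · exact absurd hw hne
    · exact Or.inl ((inX_congr h).1 hwX)
    · exact Or.inr (Or.inl ((inX_congr h).1 hwX))
    · exact Or.inr (Or.inr ((inX_congr h).1 hwX))
  obtain ⟨ho1, -⟩ := hS.props.o_ne
  obtain ⟨hoc1, -⟩ := hS.oc_ne
  obtain ⟨hd1, -⟩ := hS.props.d_ne
  have ho2 := hS.props.o_sq
  have hoc2 := hS.oc_sq
  have hd2 := hS.props.d_sq
  by_cases a : InX ι e o <;> by_cases b : InX ι e oc <;> by_cases c : InX ι e d
  · exact hS.not_all hno b
  · obtain ⟨v, h1, h2, h3⟩ := hS.props.w110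
    have := hS.witness hno a h1 ho1 ho2 hd1 ho2 h2 h3
    tauto
  · obtain ⟨v, h1, h2, h3⟩ := hS.props.w101
    have := hS.witness hno a h1 hoc1 hoc2 hoc1 ho2 h2 h3
    tauto
  · obtain ⟨v, h1, h2, h3⟩ := hS.props.w100
    have := hS.witness hno a h1 ho1 ho2 ho1 ho2 h2 h3
    tauto
  · obtain ⟨v, h1, h2, h3⟩ := hS.props.w011
    have := hS.witness hno c h1 ho1 ho2 ho1 hd2 h2 h3
    tauto
  · obtain ⟨v, h1, h2, h3⟩ := hS.props.w010
    have := hS.witness hno b h1 hoc1 hoc2 hoc1 hoc2 h2 h3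
    tauto
  · obtain ⟨v, h1, h2, h3⟩ := hS.props.w001
    have := hS.witness hno c h1 ho1 ho2 hd1 hd2 h2 h3
    tauto
  · tauto

/-- The subgroup is normal. -/
theorem normal (hO : Cfsg.oddCore G = ⊥) : ι.range.Normal := by
  have ho : orderOf (ι e) = 2 := orderOf_eq_prime (by rw [pow_two]; exact hS.z_sq) hS.z_ne
  have hiso : ∀ g : G, Commute (ι e) (g * ι e * g⁻¹) → g * ι e * g⁻¹ = ι e := fun g hg => by
    by_cases hr : ∃ r ∈ centralizer (ι.range : Set G), r * r = ι e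
    · exact hS.isolated_of_root hr hg.eq.symm
    · exact hS.isolated_of_no_root hr hg.eq.symm
  obtain ⟨P, hzP, hP⟩ := InvChar.exists_sylow_isolated ho hiso
  obtain ⟨N, hN, hodd, hcomm⟩ := S0215.result P (ι e) ho hzP hP
  have hNbot : N = ⊥ := by
    rw [eq_bot_iff, ← hO]; exact InvChar.le_oddCore hN hodd
  refine ⟨fun n hn x => ?_⟩
  have h := hcomm x
  rw [hNbot, mem_bot] at h
  have hxz : x * ι e = ι e * x := by
    rw [mul_inv_eq_one, mul_inv_eq_iff_eq_mul] at h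
    exact h.symm
  have hxN : x ∈ normalizer (ι.range : Set G) :=
    InvChar.centralizer_involution_le hS.std ho hS.z_mem fun z hz => by
      rw [Set.mem_singleton_iff.1 hz]; exact hxz.symm
  exact (mem_normalizer_iff.1 hxN n).1 hn

end Setting

end Cfsg.Agent.Co0Standard47
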