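import Cfsg.Agent.Co0Standard47.Facts
import Cfsg.Agent.Co0Standard47.Fusion

/-!
The properties hold for Co0.
-/

set_option autoImplicit false
set_option maxRecDepth 100000

namespace Cfsg.Agent.Co0Standard47

open Cfsg Cfsg.Agent.Leech
open Cfsg.Agent.Leech.Co1Cent (mono_congr mono_one_one)
open Cfsg.Agent.Golay (toSet inCode popc)
open Cfsg.Agent.SporStruct.OutCo1 (toSet_xor toSet_mem_code)
open scoped Pointwise

theorem sgn_sq {n : ℕ} (h : inCode n = true) : sgn n * sgn n = 1 := by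
  rw [sgn_eq (toSet_mem_code h), mono_one_sq]

theorem sgn_ne {n : ℕ} (h : inCode n = true) (h0 : popc n ≠ 0) (h24 : popc n ≠ 24) :
    sgn n ≠ 1 ∧ sgn n ≠ negOne := by
  rw [sgn_eq (toSet_mem_code h), ← mono_one_one, negOne_eq]
  refine ⟨fun e => h0 ?_, fun e => h24 ?_⟩
  · rw [← Golay.card_toSet, (mono_injective e).2, Finset.card_empty]
  · rw [← Golay.card_toSet, (mono_injective e).2, Finset.card_univ, Golay.card_golayPt]

/-- A sign change of weight 8, 12 or 16 by its weight. -/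
theorem isConj_weight {n : ℕ} (h : inCode n = true) :
    (popc n = 8 → IsConj (sgn n) (sgn oN)) ∧ (popc n = 12 → IsConj (sgn n) (sgn dN)) ∧
    (popc n = 16 → IsConj (sgn n) (sgn ocN)) := by
  obtain ⟨⟨o1, o2⟩, ⟨q1, q2⟩, ⟨d1, d2⟩, hoc⟩ := word_facts
  refine ⟨fun e => ?_, fun e => ?_, fun e => ?_⟩
  · obtain ⟨g, hg, hgc⟩ := Golay.octad_transitive (o := toSet n) (o' := toSet oN)
      (Golay.octad_mem_iff.2 ⟨_, h, e, rfl⟩) (Golay.octad_mem_iff.2 ⟨_, o1, o2, rfl⟩)
    rw [sgn_eq (toSet_mem_code h), sgn_eq (toSet_mem_code o1)]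
    exact isConj_congr (isConj_smul ⟨g, hg⟩ (toSet_mem_code h)) hgc
  · obtain ⟨g, hg, hgc⟩ := Golay.dodecad_transitive (d := toSet n) (d' := toSet dN)
      (Golay.dodecad_mem_iff.2 ⟨_, h, e, rfl⟩) (Golay.dodecad_mem_iff.2 ⟨_, d1, d2, rfl⟩)
    rw [sgn_eq (toSet_mem_code h), sgn_eq (toSet_mem_code d1)]
    exact isConj_congr (isConj_smul ⟨g, hg⟩ (toSet_mem_code h)) hgc
  · have hc : (toSet n)ᶜ ∈ octads := ⟨compl_mem_code (toSet_mem_code h), by
      rw [Finset.card_compl, Golay.card_golayPt, Golay.card_toSet, e]⟩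
    obtain ⟨g, hg, hgc⟩ := Golay.octad_transitive (o := (toSet n)ᶜ) (o' := toSet oN) hc
      (Golay.octad_mem_iff.2 ⟨_, o1, o2, rfl⟩)
    rw [sgn_eq (toSet_mem_code h), sgn_eq (toSet_mem_code q1)]
    refine isConj_congr (isConj_smul ⟨g, hg⟩ (toSet_mem_code h)) ?_
    show g • toSet n = toSet ocN
    rw [← hoc, toSet_xor, ← hgc, show toSet (2 ^ 24 - 1) = (Finset.univ : Finset GolayPt) by
      decide +kernel]
    ext p
    simp [Finset.mem_symmDiff, ← Finset.inv_smul_mem_iff]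

theorem props (hperf : Group.IsPerfect Co0) :
    Props Co0 negOne (sgn oN) (sgn ocN) (sgn dN) := by
  haveI := finite_co0
  haveI : Fact (Nat.Prime 2) := ⟨Nat.prime_two⟩
  obtain ⟨⟨o1, o2⟩, ⟨q1, q2⟩, ⟨d1, d2⟩, -⟩ := word_facts
  have wcomm : ∀ {a b : ℕ}, inCode a = true → inCode b = true → sgn a * sgn b = sgn b * sgn a :=
    fun {a b} ha hb => by rw [sgn_mul ha hb, sgn_mul hb ha, Nat.xor_comm]
  have hall : inCode (2 ^ 24 - 1) = true := by decide +kernel
  have hneg : negOne = sgn (2 ^ 24 - 1) := by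
    rw [sgn_eq (toSet_mem_code hall), negOne_eq]
    exact mono_congr rfl (by decide +kernel)
  have hde : inCode (dN ^^^ (2 ^ 24 - 1)) = true ∧ popc (dN ^^^ (2 ^ 24 - 1)) = 12 := by
    decide +kernel
  obtain ⟨a1, a2, a3, a4⟩ := wit_facts 0
  obtain ⟨b1, b2, b3, b4⟩ := wit_facts 1
  obtain ⟨c1, c2, c3, c4⟩ := wit_facts 2
  obtain ⟨e1, e2, e3, e4⟩ := wit_facts 3
  obtain ⟨f1, f2, f3, f4⟩ := wit_facts 4
  obtain ⟨g1, g2, g3, g4⟩ := wit_facts 5
  refine
    { e_sq := negOne_sq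
      e_ne := negOne_ne_one
      e_comm := negOne_comm
      center := fun x hx => center_eq_or x (Subgroup.mem_center_iff.2 hx)
      inner := aut_fact hperf
      types := fun x hx => isType_of_sq hx
      o_sq := sgn_sq o1
      d_sq := sgn_sq d1
      o_ne := sgn_ne o1 (by rw [o2]; norm_num) (by rw [o2]; norm_num)
      d_ne := sgn_ne d1 (by rw [d2]; norm_num) (by rw [d2]; norm_num)
      o_e := sgn_negOne
      d_e := ?_
      w100 := ⟨_, wcomm a1 o1, (isConj_weight a1).1 a2, by rw [sgn_mul a1 o1]; exact (isConj_weight a3).1 a4⟩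
      w010 := ⟨_, wcomm b1 q1, (isConj_weight b1).2.2 b2, by rw [sgn_mul b1 q1]; exact (isConj_weight b3).2.2 b4⟩
      w110 := ⟨_, wcomm c1 o1, (isConj_weight c1).1 c2, by rw [sgn_mul c1 o1]; exact (isConj_weight c3).2.1 c4⟩
      w001 := ⟨_, wcomm e1 d1, (isConj_weight e1).1 e2, by rw [sgn_mul e1 d1]; exact (isConj_weight e3).2.1 e4⟩
      w101 := ⟨_, wcomm f1 o1, (isConj_weight f1).2.2 f2, by rw [sgn_mul f1 o1]; exact (isConj_weight f3).2.2 f4⟩
      w011 := ⟨_, wcomm g1 d1, (isConj_weight g1).1 g2, by rw [sgn_mul g1 d1]; exact (isConj_weight g3).1 g4⟩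
      root := fun a => root_fact
      sylow := ?_
      kernel := kernel_fact }
  · rw [hneg, sgn_mul d1 hall]
    exact (isConj_weight hde.1).2.1 hde.2
  · obtain ⟨P, hP, hPo, hPc⟩ := sylow_fact
    refine ⟨Sylow.ofCard P ?_, hPo, hPc⟩
    have h : Nat.factorization (2 ^ 22 * 1982582476875) 2 = 22 := by
      rw [Nat.factorization_mul (by norm_num) (by norm_num), Finsupp.add_apply,
        Nat.Prime.factorization_pow Nat.prime_two, Finsupp.single_eq_same,
        Nat.factorization_eq_zero_of_not_dvd (n := 1982582476875) (by norm_num)]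
    rw [hP, S0397.result, show (8315553613086720000 : ℕ) = 2 ^ 22 * 1982582476875 from by norm_num, h]

end Cfsg.Agent.Co0Standard47
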